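import Cfsg.Agent.Helper18.Core
import Cfsg.Agent.Helper18.Monomial

/-!
The characters of an element of `H`: `χ_{-r} χ_r = 1` (extension of `diagonalSubgroup_char`).
-/

set_option autoImplicit false

namespace Cfsg.Agent.Helper18.Ree

open Cfsg Cfsg.Lie Cfsg.Agent.Helper18

variable {F : Type*} [Field F] (D : ChevalleyDatum)
  (hD : D ∈ [chevG2, chevB2, chevD4, chevF4, chevE6, chevE7, chevE8])

include hD in
/-- the elements of `H` are diagonal matrices `diag(1, …, 1; χ_s)`, conjugate `x_r(t)` to `x_r(χ_r t)`, and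
`χ_{-r} χ_r = 1` -/
theorem diag_char_neg (k : GL D.Idx F) (hk : k ∈ D.diagonalSubgroup F) :
    ∃ χ : ℕ → F, (∀ s, χ s ≠ 0) ∧
      (k : Matrix D.Idx D.Idx F) = Matrix.diagonal (Sum.elim (fun _ => (1 : F)) (fun s : Fin D.nroots => χ s.val)) ∧
      (∀ r < D.nroots, ∀ t : F, k * xGL D F r t = xGL D F r (χ r * t) * k) ∧
      ∀ r < D.nroots, χ (D.neg r) * χ r = 1 := by
  unfold ChevalleyDatum.diagonalSubgroup at hk
  induction hk using Subgroup.closure_induction with
  | mem g hg =>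
    obtain ⟨s, t, hs, ht, hgm⟩ := hg
    refine ⟨fun u => t ^ pairing' D s u, fun u => zpow_ne_zero _ ht, ?_, fun r hr a => ?_, fun r hr => ?_⟩
    · rw [hgm, hMat_eq_wDiag D hD s hs t ht]; rfl
    · exact hMat_comm_xGL D hD g s hs t ht hgm r hr a
    · show t ^ pairing' D s (D.neg r) * t ^ pairing' D s r = 1
      rw [pairing'_neg_right D hD s r hr, zpow_neg, inv_mul_cancel₀ (zpow_ne_zero _ ht)]
  | one =>
    refine ⟨fun _ => 1, fun _ => one_ne_zero, ?_, fun r _ a => by simp, fun r _ => by simp⟩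
    rw [Units.val_one, ← Matrix.diagonal_one]
    congr 1
    funext j
    rcases j with a | s <;> rfl
  | mul g g' _ _ ih ih' =>
    obtain ⟨χ, hχ, hd, hc, hn⟩ := ih
    obtain ⟨χ', hχ', hd', hc', hn'⟩ := ih'
    refine ⟨fun s => χ s * χ' s, fun s => mul_ne_zero (hχ s) (hχ' s), ?_, fun r hr a => ?_, fun r hr => ?_⟩
    · rw [Units.val_mul, hd, hd', Matrix.diagonal_mul_diagonal]
      congr 1
      funext j
      rcases j with a | s <;> simp
    · rw [mul_assoc, hc' r hr a, ← mul_assoc, hc r hr, mul_assoc, mul_assoc]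
    · show χ (D.neg r) * χ' (D.neg r) * (χ r * χ' r) = 1
      have e : χ (D.neg r) * χ' (D.neg r) * (χ r * χ' r) = (χ (D.neg r) * χ r) * (χ' (D.neg r) * χ' r) := by ring
      rw [e, hn r hr, hn' r hr, one_mul]
  | inv g _ ih =>
    obtain ⟨χ, hχ, hd, hc, hn⟩ := ih
    refine ⟨fun s => (χ s)⁻¹, fun s => inv_ne_zero (hχ s), ?_, fun r hr a => ?_, fun r hr => ?_⟩
    · have h1 : (g : Matrix D.Idx D.Idx F) *
          Matrix.diagonal (Sum.elim (fun _ => (1 : F)) (fun s : Fin D.nroots => (χ s.val)⁻¹)) = 1 := by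
        rw [hd, Matrix.diagonal_mul_diagonal, ← Matrix.diagonal_one]
        congr 1
        funext j
        rcases j with a | s
        · simp
        · simp [hχ s.val]
      calc ((g⁻¹ : GL D.Idx F) : Matrix D.Idx D.Idx F)
          = ((g⁻¹ : GL D.Idx F) : Matrix D.Idx D.Idx F) * ((g : Matrix D.Idx D.Idx F) *
              Matrix.diagonal (Sum.elim (fun _ => (1 : F)) (fun s : Fin D.nroots => (χ s.val)⁻¹))) := by
            rw [h1, mul_one]
        _ = _ := by rw [← mul_assoc, ← Units.val_mul, inv_mul_cancel, Units.val_one, one_mul]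
    · have := hc r hr ((χ r)⁻¹ * a)
      rw [mul_inv_cancel_left₀ (hχ r)] at this
      rw [inv_mul_eq_iff_eq_mul, ← mul_assoc, this, mul_inv_cancel_right]
    · show (χ (D.neg r))⁻¹ * (χ r)⁻¹ = 1
      rw [← mul_inv, hn r hr, inv_one]

end Cfsg.Agent.Helper18.Ree
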