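import Mathlib

/-!
The abstract computation behind `²G₂`: six one-parameter families `Xa, Xb, Xab, Xaab, Xaaab, Xaaabb` in a group with
the relations of the unipotent subgroup of `G₂` in characteristic `3`, and an endomorphism `σ` acting as the twist.
-/

set_option autoImplicit false

namespace Cfsg.Agent.Helper18.Ree

theorem four_mul {G : Type*} [Group G] {P Q R S P' Q' R' S' : G} (hQP : Commute Q P') (hRP : Commute R P')
    (hSP : Commute S P') (hRQ : Commute R Q') (hSQ : Commute S Q') (hSR : Commute S R') :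
    (P * Q * R * S) * (P' * Q' * R' * S') = (P * P') * (Q * Q') * (R * R') * (S * S') := by
  have h1 : S * (P' * Q' * R' * S') = (P' * Q' * R') * (S * S') := by
    rw [← mul_assoc, ((hSP.mul_right hSQ).mul_right hSR).eq, mul_assoc]
  have h2 : R * (P' * Q' * R') = (P' * Q') * (R * R') := by
    rw [← mul_assoc, (hRP.mul_right hRQ).eq, mul_assoc]
  have h3 : Q * (P' * Q') = P' * (Q * Q') := by
    rw [← mul_assoc, hQP.eq, mul_assoc]
  calc P * Q * R * S * (P' * Q' * R' * S') = P * Q * R * (S * (P' * Q' * R' * S')) := by rw [mul_assoc]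
    _ = P * Q * (R * (P' * Q' * R')) * (S * S') := by rw [h1]; simp only [mul_assoc]
    _ = P * (Q * (P' * Q')) * (R * R') * (S * S') := by rw [h2]; simp only [mul_assoc]
    _ = _ := by rw [h3]; simp only [mul_assoc]

/-- the relations of `U(G₂)` in characteristic 3, for six one-parameter families -/
structure Sys (K : Type*) [Field K] (G : Type*) [Group G] where
  Xa : K → G
  Xb : K → G
  Xab : K → G
  Xaab : K → G
  Xaaab : K → G
  Xaaabb : K → G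
  add_ab : ∀ t u, Xab t * Xab u = Xab (t + u)
  add_aab : ∀ t u, Xaab t * Xaab u = Xaab (t + u)
  add_aaab : ∀ t u, Xaaab t * Xaaab u = Xaaab (t + u)
  add_aaabb : ∀ t u, Xaaabb t * Xaaabb u = Xaaabb (t + u)
  c12 : ∀ t u, Commute (Xab t) (Xaab u)
  c13 : ∀ t u, Commute (Xab t) (Xaaab u)
  c14 : ∀ t u, Commute (Xab t) (Xaaabb u)
  c23 : ∀ t u, Commute (Xaab t) (Xaaab u)
  c24 : ∀ t u, Commute (Xaab t) (Xaaabb u)
  c34 : ∀ t u, Commute (Xaaab t) (Xaaabb u)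
  comm_ab : ∀ r s, Xb s * Xa r = Xa r * Xb s *
    (Xab (r * s) * Xaab (r ^ 2 * s) * Xaaab (-(r ^ 3 * s)) * Xaaabb (-(r ^ 3 * s ^ 2)))

namespace Sys

variable {K : Type*} [Field K] {G : Type*} [Group G] (S : Sys K G)

/-- an element of the abelian part -/
def hh (c d e f : K) : G := S.Xab c * S.Xaab d * S.Xaaab e * S.Xaaabb f

theorem hh_mul (c d e f c' d' e' f' : K) :
    S.hh c d e f * S.hh c' d' e' f' = S.hh (c + c') (d + d') (e + e') (f + f') := by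
  unfold hh
  rw [four_mul (S.c12 _ _).symm (S.c13 _ _).symm (S.c14 _ _).symm (S.c23 _ _).symm (S.c24 _ _).symm
    (S.c34 _ _).symm, S.add_ab, S.add_aab, S.add_aaab, S.add_aaabb]

theorem Xab_zero : S.Xab 0 = 1 := by
  have := S.add_ab 0 0
  rw [add_zero] at this
  exact mul_eq_left.mp this

theorem Xaab_zero : S.Xaab 0 = 1 := by
  have := S.add_aab 0 0
  rw [add_zero] at this
  exact mul_eq_left.mp this

theorem Xaaab_zero : S.Xaaab 0 = 1 := by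
  have := S.add_aaab 0 0
  rw [add_zero] at this
  exact mul_eq_left.mp this

theorem Xaaabb_zero : S.Xaaabb 0 = 1 := by
  have := S.add_aaabb 0 0
  rw [add_zero] at this
  exact mul_eq_left.mp this

theorem hh_zero : S.hh 0 0 0 0 = 1 := by
  unfold hh
  rw [Xab_zero, Xaab_zero, Xaaab_zero, Xaaabb_zero]
  simp

/-- the image of `hh` under the twist, reordered -/
theorem hh_perm (c d e f : K) : S.Xaaab e * S.Xaaabb f * S.Xab c * S.Xaab d = S.hh c d e f := by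
  unfold hh
  have h1 : S.Xaaab e * S.Xaaabb f * S.Xab c = S.Xab c * (S.Xaaab e * S.Xaaabb f) :=
    (((S.c13 c e).symm).mul_left ((S.c14 c f).symm)).eq
  have h2 : S.Xaaab e * S.Xaaabb f * S.Xaab d = S.Xaab d * (S.Xaaab e * S.Xaaabb f) :=
    (((S.c23 d e).symm).mul_left ((S.c24 d f).symm)).eq
  rw [h1, mul_assoc, h2]
  simp only [mul_assoc]

/-- `x_b(s) x_a(r) h = x_a(r) x_b(s) h'` -/
theorem ba_to_ab (r s c d e f : K) :
    S.Xb s * S.Xa r * S.hh c d e f =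
      S.Xa r * S.Xb s * S.hh (r * s + c) (r ^ 2 * s + d) (-(r ^ 3 * s) + e) (-(r ^ 3 * s ^ 2) + f) := by
  rw [S.comm_ab, mul_assoc (S.Xa r * S.Xb s)]
  congr 1
  exact S.hh_mul _ _ _ _ _ _ _ _

/-- `x_a(r) x_b(s) h = x_b(s) x_a(r) h'` -/
theorem ab_to_ba (r s c d e f : K) :
    S.Xa r * S.Xb s * S.hh c d e f =
      S.Xb s * S.Xa r * S.hh (-(r * s) + c) (-(r ^ 2 * s) + d) (r ^ 3 * s + e) (r ^ 3 * s ^ 2 + f) := by
  rw [ba_to_ab]
  congr 1
  ring_nf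

/-- the Ree word -/
def word (θ : ℕ) (t u v : K) : G :=
  S.Xa (t ^ θ) * S.Xb t * S.Xab (t ^ (θ + 1) + u ^ θ) * S.Xaab (t ^ (2 * θ + 1) + v ^ θ) * S.Xaaab u * S.Xaaabb v

theorem word_eq (θ : ℕ) (t u v : K) :
    S.word θ t u v = S.Xa (t ^ θ) * S.Xb t * S.hh (t ^ (θ + 1) + u ^ θ) (t ^ (2 * θ + 1) + v ^ θ) u v := by
  unfold word hh
  simp only [mul_assoc]

/-- the action of a twist `σ` -/
structure Twist (σ : G →* G) (θ : ℕ) : Prop where
  sa : ∀ t, σ (S.Xa t) = S.Xb (t ^ (3 * θ))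
  sb : ∀ t, σ (S.Xb t) = S.Xa (t ^ θ)
  sab : ∀ t, σ (S.Xab t) = S.Xaaab (t ^ (3 * θ))
  saaab : ∀ t, σ (S.Xaaab t) = S.Xab (t ^ θ)
  saab : ∀ t, σ (S.Xaab t) = S.Xaaabb (t ^ (3 * θ))
  saaabb : ∀ t, σ (S.Xaaabb t) = S.Xaab (t ^ θ)

variable {S}

theorem Twist.map_hh {σ : G →* G} {θ : ℕ} (hσ : S.Twist σ θ) (c d e f : K) :
    σ (S.hh c d e f) = S.hh (e ^ θ) (f ^ θ) (c ^ (3 * θ)) (d ^ (3 * θ)) := by
  rw [← S.hh_perm]
  unfold hh
  rw [map_mul, map_mul, map_mul, hσ.sab, hσ.saab, hσ.saaab, hσ.saaabb]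

/-- the field facts used: `q = 3 θ²`, and the `θ`-th and `3θ`-th power maps are additive -/
structure FieldHyp (K : Type*) [Field K] (θ : ℕ) : Prop where
  hq : ∀ x : K, (x ^ θ) ^ (3 * θ) = x
  hadd3 : ∀ x y : K, (x + y) ^ (3 * θ) = x ^ (3 * θ) + y ^ (3 * θ)
  hadd : ∀ x y : K, (x + y) ^ θ = x ^ θ + y ^ θ
  hneg : ∀ x : K, (-x) ^ θ = -(x ^ θ)

theorem FieldHyp.hq' {θ : ℕ} (hK : FieldHyp K θ) (x : K) : (x ^ (3 * θ)) ^ θ = x := by
  rw [← pow_mul, mul_comm, pow_mul]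
  exact hK.hq x

/-- the Ree words are fixed by the twist -/
theorem Twist.word_fixed {σ : G →* G} {θ : ℕ} (hσ : S.Twist σ θ) (hK : FieldHyp K θ) (t u v : K) :
    σ (S.word θ t u v) = S.word θ t u v := by
  rw [S.word_eq, map_mul, map_mul, hσ.sa, hσ.sb, hσ.map_hh, hK.hq, S.ba_to_ab]
  congr 1
  rw [hK.hadd3, hK.hadd3, hK.hq]
  have e1 : (t ^ (θ + 1)) ^ (3 * θ) = (t ^ θ) ^ 3 * t := by
    calc (t ^ (θ + 1)) ^ (3 * θ) = t * t ^ (3 * θ) := by rw [pow_succ, mul_pow, hK.hq]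
      _ = (t ^ θ) ^ 3 * t := by rw [← pow_mul t θ 3, mul_comm θ 3, mul_comm]
  have h2 : (t ^ (2 * θ)) ^ (3 * θ) = t ^ 2 := by
    calc (t ^ (2 * θ)) ^ (3 * θ) = ((t ^ θ) ^ (3 * θ)) ^ 2 := by
          rw [← pow_mul, ← pow_mul, ← pow_mul]; congr 1; ring
      _ = t ^ 2 := by rw [hK.hq]
  have e2 : (t ^ (2 * θ + 1)) ^ (3 * θ) = (t ^ θ) ^ 3 * t ^ 2 := by
    calc (t ^ (2 * θ + 1)) ^ (3 * θ) = t ^ 2 * t ^ (3 * θ) := by rw [pow_succ, mul_pow, h2]
      _ = (t ^ θ) ^ 3 * t ^ 2 := by rw [← pow_mul t θ 3, mul_comm θ 3, mul_comm]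
  rw [e1, e2, hK.hq]
  congr 1
  · ring
  · ring
  · ring
  · ring


/-- uniqueness of the normal form `x_b(s) x_a(r) h(c,d,e,f)` -/
def Uniq (S : Sys K G) : Prop :=
  ∀ s r c d e f s' r' c' d' e' f' : K,
    S.Xb s * S.Xa r * S.hh c d e f = S.Xb s' * S.Xa r' * S.hh c' d' e' f' →
    s = s' ∧ r = r' ∧ c = c' ∧ d = d' ∧ e = e' ∧ f = f'

/-- a fixed point of the twist in normal form is a Ree word -/
theorem Twist.fixed_eq_word {σ : G →* G} {θ : ℕ} (hσ : S.Twist σ θ) (hK : FieldHyp K θ) (hU : S.Uniq)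
    (s r c d e f : K)
    (hfix : σ (S.Xb s * S.Xa r * S.hh c d e f) = S.Xb s * S.Xa r * S.hh c d e f) :
    ∃ t u v : K, S.Xb s * S.Xa r * S.hh c d e f = S.word θ t u v := by
  rw [map_mul, map_mul, hσ.sa, hσ.sb, hσ.map_hh, S.ab_to_ba] at hfix
  obtain ⟨h1, h2, h3, h4, h5, h6⟩ := hU _ _ _ _ _ _ _ _ _ _ _ _ hfix
  refine ⟨s, -(r ^ 3 * s) + e, -(r ^ 3 * s ^ 2) + f, ?_⟩
  rw [S.word_eq, S.ba_to_ab, h2]
  have k1 : (r ^ 3) ^ θ = s := by rw [← pow_mul]; exact h1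
  have k2 : (s ^ 2) ^ θ = r ^ 2 := by rw [← pow_mul, mul_comm 2 θ, pow_mul, h2]
  have e1 : (-(r ^ 3 * s) + e) ^ θ = c := by
    rw [hK.hadd, hK.hneg, mul_pow, k1, h2, ← h3, h1, h2]
    ring
  have e2 : (-(r ^ 3 * s ^ 2) + f) ^ θ = d := by
    rw [hK.hadd, hK.hneg, mul_pow, k1, k2, ← h4, h1, h2]
    ring
  rw [e1, e2]
  congr 2
  · rw [← h2]; ring
  · rw [← h2]; ring

/-- the Ree word determines its parameters -/
theorem word_injective {θ : ℕ} (hU : S.Uniq) (t u v t' u' v' : K)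
    (h : S.word θ t u v = S.word θ t' u' v') : t = t' ∧ u = u' ∧ v = v' := by
  rw [S.word_eq, S.word_eq, S.ab_to_ba, S.ab_to_ba] at h
  obtain ⟨h1, h2, -, -, h5, h6⟩ := hU _ _ _ _ _ _ _ _ _ _ _ _ h
  subst h1
  exact ⟨rfl, add_left_cancel h5, add_left_cancel h6⟩

end Sys

end Cfsg.Agent.Helper18.Ree
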