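import Cfsg.Agent.Helper18.Ree.G1Cases

/-!
The (B,N)-pair of `²G₂`.
-/

set_option autoImplicit false
set_option maxRecDepth 100000

namespace Cfsg.Agent.Helper18.Ree

open Cfsg Cfsg.Lie Cfsg.Agent.Helper18

variable {K : Type*} [Field K] {σ : ↥(chevG2.group K) ≃* ↥(chevG2.group K)}

/-- a representative of `w₀` conjugates `U` into `V` -/
theorem theta_w0_conj (n : ↥(chevG2.monomialSubgroup K)) (hθ : thetaG2 n = w0G2) (u : GL chevG2.Idx K)
    (hu : u ∈ chevG2.posUnipotent K) :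
    (n : GL chevG2.Idx K) * u * (n : GL chevG2.Idx K)⁻¹ ∈ chevG2.negUnipotent K := by
  unfold ChevalleyDatum.posUnipotent at hu
  induction hu using Subgroup.closure_induction with
  | mem x hx =>
    obtain ⟨r, t, hr, hx⟩ := hx
    have hr' := (isPosRoot_G2 r).mp hr
    have e : x = xGL chevG2 K r t := Units.ext (by rw [hx, xGL_val _ _ (triOK_of_mem chevG2 hG2)])
    obtain ⟨-, t', e1⟩ := thetaG2_conj n r hr'.2 t
    rw [e, e1, hθ, phiG2_w0 r hr'.2]
    exact xGL_mem_negUnipotent _ (by omega) _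
  | one => simp
  | mul a b _ _ ha hb =>
    have : (n : GL chevG2.Idx K) * (a * b) * (n : GL chevG2.Idx K)⁻¹ =
        ((n : GL chevG2.Idx K) * a * (n : GL chevG2.Idx K)⁻¹) *
          ((n : GL chevG2.Idx K) * b * (n : GL chevG2.Idx K)⁻¹) := by group
    rw [this]
    exact mul_mem ha hb
  | inv a _ ha =>
    have : (n : GL chevG2.Idx K) * a⁻¹ * (n : GL chevG2.Idx K)⁻¹ =
        ((n : GL chevG2.Idx K) * a * (n : GL chevG2.Idx K)⁻¹)⁻¹ := by group
    rw [this]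
    exact inv_mem ha

theorem borel_inf_neg : chevG2.borelSubgroup K ⊓ chevG2.negUnipotent K = ⊥ :=
  (Cfsg.Agent.S1037.result (F := K) chevG2 hG2).1

theorem borel_inf_monomial : chevG2.borelSubgroup K ⊓ chevG2.monomialSubgroup K = chevG2.diagonalSubgroup K :=
  (Cfsg.Agent.S1040.result (F := K) chevG2 hG2).2

/-- a representative of `w₀` in `G¹` -/
theorem exists_n0 [Fintype K] {m : ℕ} (hK : Fintype.card K = 3 ^ (2 * m + 1)) [CharP K 3] (hσ : SigmaSpec m σ) :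
    ∃ n₀ : ↥(chevG2.monomialSubgroup K), (n₀ : GL chevG2.Idx K) ∈ twistedG2 K (3 ^ m) ∧ thetaG2 n₀ = w0G2 := by
  rcases G1_cases hK hσ (v0 K) (v0_mem_twisted _ (pow_ne_zero _ (by norm_num))) with h | ⟨-, -, n₁, h1, h2, -⟩
  · exfalso
    have : v0 K ∈ chevG2.borelSubgroup K ⊓ chevG2.negUnipotent K := ⟨h, v0_mem_neg⟩
    rw [borel_inf_neg, Subgroup.mem_bot] at this
    exact v0_ne_one this
  · exact ⟨n₁, h1, h2⟩

/-- the Weyl group element of an element of `N ∩ G¹` -/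
theorem theta_of_mem [Fintype K] {m : ℕ} (hK : Fintype.card K = 3 ^ (2 * m + 1)) [CharP K 3] (hσ : SigmaSpec m σ)
    (n : ↥(chevG2.monomialSubgroup K)) (hn : (n : GL chevG2.Idx K) ∈ twistedG2 K (3 ^ m)) :
    thetaG2 n = 1 ∨ thetaG2 n = w0G2 := by
  have h1 := (mem_FixS_iff.mp (twistedG2_le_FixS hK hσ hn)).2
  exact eq_one_or_w0 _ (theta_comm hσ n n h1 rfl)

theorem w0G2_inv : w0G2⁻¹ = w0G2 := inv_eq_of_mul_eq_one_left w0G2_mul_self

end Cfsg.Agent.Helper18.Ree
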