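import Cfsg.Agent.Helper18.Ree.BN
import Cfsg.Agent.Helper18.BNMain

/-!
The (B,N)-pair of `²G₂(3^(2m+1))`: `B¹ = G¹ ∩ B`, `N¹ = G¹ ∩ N`, one distinguished generator.
-/

set_option autoImplicit false
set_option maxRecDepth 100000

namespace Cfsg.Agent.Helper18.Ree

open Cfsg Cfsg.Lie Cfsg.Agent.Helper18

variable {K : Type*} [Field K]

theorem theta_mul' (a b : GL chevG2.Idx K) (ha : a ∈ chevG2.monomialSubgroup K)
    (hb : b ∈ chevG2.monomialSubgroup K) :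
    thetaG2 (⟨a * b, mul_mem ha hb⟩ : ↥(chevG2.monomialSubgroup K)) = thetaG2 ⟨a, ha⟩ * thetaG2 ⟨b, hb⟩ := by
  have : (⟨a * b, mul_mem ha hb⟩ : ↥(chevG2.monomialSubgroup K)) = ⟨a, ha⟩ * ⟨b, hb⟩ := rfl
  rw [this, map_mul]

theorem theta_inv' (a : GL chevG2.Idx K) (ha : a ∈ chevG2.monomialSubgroup K) :
    thetaG2 (⟨a⁻¹, inv_mem ha⟩ : ↥(chevG2.monomialSubgroup K)) = (thetaG2 ⟨a, ha⟩)⁻¹ := by
  have : (⟨a⁻¹, inv_mem ha⟩ : ↥(chevG2.monomialSubgroup K)) = (⟨a, ha⟩ : ↥(chevG2.monomialSubgroup K))⁻¹ := rfl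
  rw [this, map_inv]

theorem mem_diag_of_theta (a : GL chevG2.Idx K) (ha : a ∈ chevG2.monomialSubgroup K)
    (h : thetaG2 (⟨a, ha⟩ : ↥(chevG2.monomialSubgroup K)) = 1) : a ∈ chevG2.diagonalSubgroup K :=
  (thetaG2_eq_one_iff ⟨a, ha⟩).mp h

set_option maxHeartbeats 1000000 in
theorem exists_bnPair_ree [Fintype K] {m : ℕ} (hK : Fintype.card K = 3 ^ (2 * m + 1)) :
    ∃ P : Cfsg.BNPair ↥(twistedG2 K (3 ^ m)),
      P.B = (chevG2.borelSubgroup K ⊓ twistedG2 K (3 ^ m)).subgroupOf (twistedG2 K (3 ^ m)) ∧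
      P.N = (chevG2.monomialSubgroup K ⊓ twistedG2 K (3 ^ m)).subgroupOf (twistedG2 K (3 ^ m)) ∧
      ∃ (n₀ : ↥(chevG2.monomialSubgroup K)) (h : (n₀ : GL chevG2.Idx K) ∈ twistedG2 K (3 ^ m)),
        thetaG2 n₀ = w0G2 ∧ P.S = {⟨(n₀ : GL chevG2.Idx K), h⟩} := by
  haveI := charP_three hK
  obtain ⟨σ, hσ'⟩ := exists_sigma hK
  have hσ : SigmaSpec m σ := hσ'
  obtain ⟨n₀, hn₀G, hθ₀⟩ := exists_n0 hK hσ
  obtain ⟨s₀, hs₀⟩ : ∃ s₀ : ↥(twistedG2 K (3 ^ m)), s₀ = ⟨(n₀ : GL chevG2.Idx K), hn₀G⟩ := ⟨_, rfl⟩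
  have hs₀v : (s₀ : GL chevG2.Idx K) = (n₀ : GL chevG2.Idx K) := by rw [hs₀]
  have hHB := diagonal_le_borel (F := K) chevG2 hG2
  have hUB := posUnipotent_le_borel (F := K) chevG2 hG2
  have hHN := diagonalSubgroup_le_monomialSubgroup (F := K) chevG2
  have memB : ∀ x : ↥(twistedG2 K (3 ^ m)),
      x ∈ (chevG2.borelSubgroup K ⊓ twistedG2 K (3 ^ m)).subgroupOf (twistedG2 K (3 ^ m)) ↔
        (x : GL chevG2.Idx K) ∈ chevG2.borelSubgroup K := by
    intro x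
    rw [Subgroup.mem_subgroupOf, Subgroup.mem_inf]
    exact ⟨fun h => h.1, fun h => ⟨h, x.2⟩⟩
  have memN : ∀ x : ↥(twistedG2 K (3 ^ m)),
      x ∈ (chevG2.monomialSubgroup K ⊓ twistedG2 K (3 ^ m)).subgroupOf (twistedG2 K (3 ^ m)) ↔
        (x : GL chevG2.Idx K) ∈ chevG2.monomialSubgroup K := by
    intro x
    rw [Subgroup.mem_subgroupOf, Subgroup.mem_inf]
    exact ⟨fun h => h.1, fun h => ⟨h, x.2⟩⟩
  have hn₀n₀ : (n₀ : GL chevG2.Idx K) * (n₀ : GL chevG2.Idx K) ∈ chevG2.diagonalSubgroup K := by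
    apply mem_diag_of_theta _ (mul_mem n₀.2 n₀.2)
    rw [theta_mul' _ _ n₀.2 n₀.2]
    show thetaG2 n₀ * thetaG2 n₀ = 1
    rw [hθ₀, w0G2_mul_self]
  -- a product of two representatives of `w₀` (one inverted) lies in `H`
  have hw0w0 : ∀ (a b : GL chevG2.Idx K) (ha : a ∈ chevG2.monomialSubgroup K) (hb : b ∈ chevG2.monomialSubgroup K),
      thetaG2 (⟨a, ha⟩ : ↥(chevG2.monomialSubgroup K)) = w0G2 →
      thetaG2 (⟨b, hb⟩ : ↥(chevG2.monomialSubgroup K)) = w0G2 → a⁻¹ * b ∈ chevG2.diagonalSubgroup K := by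
    intro a b ha hb h1 h2
    apply mem_diag_of_theta _ (mul_mem (inv_mem ha) hb)
    rw [theta_mul' _ _ (inv_mem ha) hb, theta_inv' _ ha, h1, h2, w0G2_inv, w0G2_mul_self]
  have hw0w0' : ∀ (a b : GL chevG2.Idx K) (ha : a ∈ chevG2.monomialSubgroup K) (hb : b ∈ chevG2.monomialSubgroup K),
      thetaG2 (⟨a, ha⟩ : ↥(chevG2.monomialSubgroup K)) = w0G2 →
      thetaG2 (⟨b, hb⟩ : ↥(chevG2.monomialSubgroup K)) = w0G2 → a * b ∈ chevG2.diagonalSubgroup K := by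
    intro a b ha hb h1 h2
    apply mem_diag_of_theta _ (mul_mem ha hb)
    rw [theta_mul' _ _ ha hb, h1, h2, w0G2_mul_self]
  refine ⟨{
    B := (chevG2.borelSubgroup K ⊓ twistedG2 K (3 ^ m)).subgroupOf (twistedG2 K (3 ^ m))
    N := (chevG2.monomialSubgroup K ⊓ twistedG2 K (3 ^ m)).subgroupOf (twistedG2 K (3 ^ m))
    S := {s₀}
    sup_eq_top := ?_
    conj_mem := ?_
    subset := ?_
    sq_mem := ?_
    inj := ?_
    closure_sup := ?_
    mul_mem_union := ?_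
    conj_ne := ?_ }, rfl, rfl, n₀, hn₀G, hθ₀,
      congrArg (fun x : ↥(twistedG2 K (3 ^ m)) => ({x} : Set ↥(twistedG2 K (3 ^ m)))) hs₀⟩
  · -- sup_eq_top
    rw [eq_top_iff]
    intro x _
    rcases G1_cases hK hσ (x : GL chevG2.Idx K) x.2 with h | ⟨u₂, hu₂, n₁, hn₁, -, u₁, hu₁, e⟩
    · exact Subgroup.mem_sup_left ((memB x).mpr h)
    · have ex : x = (⟨u₂, hu₂.2⟩ : ↥(twistedG2 K (3 ^ m))) * ⟨(n₁ : GL chevG2.Idx K), hn₁⟩ * ⟨u₁, hu₁.2⟩ :=
        Subtype.ext e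
      rw [ex]
      exact mul_mem (mul_mem (Subgroup.mem_sup_left ((memB _).mpr (hUB hu₂.1)))
        (Subgroup.mem_sup_right ((memN _).mpr n₁.2))) (Subgroup.mem_sup_left ((memB _).mpr (hUB hu₁.1)))
  · -- conj_mem
    intro n hn t ht
    rw [memN] at hn
    rw [Subgroup.mem_inf, memB, memN] at ht
    rw [memB]
    have ht' : (t : GL chevG2.Idx K) ∈ chevG2.borelSubgroup K ⊓ chevG2.monomialSubgroup K := ht
    rw [borel_inf_monomial] at ht'
    have := (Subgroup.mem_normalizer_iff.mp (monomialSubgroup_le_normalizer chevG2 hG2 hn) _).mp ht'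
    exact hHB (by simpa using this)
  · -- subset
    intro s hs
    rw [Set.mem_singleton_iff] at hs
    rw [hs, SetLike.mem_coe, memN, hs₀v]
    exact n₀.2
  · -- sq_mem
    intro s hs
    rw [Set.mem_singleton_iff] at hs
    rw [hs, memB, Subgroup.coe_mul, hs₀v]
    exact hHB hn₀n₀
  · -- inj
    intro s hs s' hs' _
    rw [Set.mem_singleton_iff] at hs hs'
    rw [hs, hs']
  · -- closure_sup
    apply le_antisymm
    · apply sup_le
      · rw [Subgroup.closure_le]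
        intro s hs
        rw [Set.mem_singleton_iff] at hs
        rw [hs, SetLike.mem_coe, memN, hs₀v]
        exact n₀.2
      · exact inf_le_right
    · intro x hx
      rw [memN] at hx
      rcases theta_of_mem hK hσ ⟨(x : GL chevG2.Idx K), hx⟩ x.2 with h1 | h1
      · apply Subgroup.mem_sup_right
        have hxH := mem_diag_of_theta _ hx h1
        rw [Subgroup.mem_inf, memB, memN]
        exact ⟨hHB hxH, hx⟩
      · have hy := hw0w0 _ _ n₀.2 hx hθ₀ h1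
        have hs₀mem : s₀ ∈ Subgroup.closure ({s₀} : Set ↥(twistedG2 K (3 ^ m))) :=
          Subgroup.subset_closure (Set.mem_singleton _)
        have hymem : s₀⁻¹ * x ∈
            (chevG2.borelSubgroup K ⊓ twistedG2 K (3 ^ m)).subgroupOf (twistedG2 K (3 ^ m)) ⊓
            (chevG2.monomialSubgroup K ⊓ twistedG2 K (3 ^ m)).subgroupOf (twistedG2 K (3 ^ m)) := by
          rw [Subgroup.mem_inf, memB, memN, Subgroup.coe_mul, Subgroup.coe_inv, hs₀v]
          exact ⟨hHB hy, hHN hy⟩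
        have ex : x = s₀ * (s₀⁻¹ * x) := (mul_inv_cancel_left _ _).symm
        rw [ex]
        exact Subgroup.mul_mem_sup hs₀mem hymem
  · -- mul_mem_union
    intro s hs n hn b hb
    rw [Set.mem_singleton_iff] at hs
    have hsv : (s : GL chevG2.Idx K) = (n₀ : GL chevG2.Idx K) := by rw [hs, hs₀v]
    have hsN : (s : GL chevG2.Idx K) ∈ chevG2.monomialSubgroup K := by rw [hsv]; exact n₀.2
    have hθs : thetaG2 (⟨(s : GL chevG2.Idx K), hsN⟩ : ↥(chevG2.monomialSubgroup K)) = w0G2 := by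
      rw [← hθ₀]
      congr 1
      exact Subtype.ext hsv
    clear hs
    rw [memN] at hn
    rw [memB] at hb
    rcases theta_of_mem hK hσ ⟨(n : GL chevG2.Idx K), hn⟩ n.2 with h1 | h1
    · left
      have hnH := mem_diag_of_theta _ hn h1
      rw [DoubleCoset.mem_doubleCoset]
      refine ⟨1, Subgroup.one_mem _, n⁻¹ * b * n, ?_, ?_⟩
      · rw [SetLike.mem_coe, memB]
        exact mul_mem (mul_mem (inv_mem (hHB hnH)) hb) (hHB hnH)
      · simp only [one_mul, mul_assoc, mul_inv_cancel_left]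
    · rcases G1_cases hK hσ ((s * b * n : ↥(twistedG2 K (3 ^ m))) : GL chevG2.Idx K) (s * b * n).2 with
        h | ⟨u₂, hu₂, n₁, hn₁, hθ₁, u₁, hu₁, e⟩
      · left
        have hsn := hw0w0' _ _ hsN hn hθs h1
        rw [DoubleCoset.mem_doubleCoset]
        refine ⟨(s * b * n) * (s * n)⁻¹, ?_, 1, Subgroup.one_mem _, ?_⟩
        · rw [SetLike.mem_coe, memB]
          exact mul_mem h (inv_mem (hHB hsn))
        · simp only [mul_one, inv_mul_cancel_right]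
      · right
        have hy := hw0w0 _ _ hn n₁.2 h1 hθ₁
        rw [DoubleCoset.mem_doubleCoset]
        refine ⟨⟨u₂, hu₂.2⟩, ?_, n⁻¹ * ⟨(n₁ : GL chevG2.Idx K), hn₁⟩ * ⟨u₁, hu₁.2⟩, ?_, ?_⟩
        · rw [SetLike.mem_coe, memB]
          exact hUB hu₂.1
        · rw [SetLike.mem_coe, memB]
          exact mul_mem (hHB hy) (hUB hu₁.1)
        · have ex : s * b * n = (⟨u₂, hu₂.2⟩ : ↥(twistedG2 K (3 ^ m))) * ⟨(n₁ : GL chevG2.Idx K), hn₁⟩ *
              ⟨u₁, hu₁.2⟩ := Subtype.ext e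
          rw [ex]
          simp only [mul_assoc, mul_inv_cancel_left]
  · -- conj_ne
    intro s hs heq
    rw [Set.mem_singleton_iff] at hs
    have hsv : (s : GL chevG2.Idx K) = (n₀ : GL chevG2.Idx K) := by rw [hs, hs₀v]
    clear hs
    have hu0G : u0 K ∈ twistedG2 K (3 ^ m) := u0_mem_twisted _ (pow_ne_zero _ (by norm_num))
    have hmem : (⟨u0 K, hu0G⟩ : ↥(twistedG2 K (3 ^ m))) ∈
        (((chevG2.borelSubgroup K ⊓ twistedG2 K (3 ^ m)).subgroupOf (twistedG2 K (3 ^ m)) :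
          Subgroup ↥(twistedG2 K (3 ^ m))) : Set ↥(twistedG2 K (3 ^ m))) := by
      rw [SetLike.mem_coe, memB]
      exact hUB u0_mem_pos
    have h1 : s * ⟨u0 K, hu0G⟩ * s ∈
        (((chevG2.borelSubgroup K ⊓ twistedG2 K (3 ^ m)).subgroupOf (twistedG2 K (3 ^ m)) :
          Subgroup ↥(twistedG2 K (3 ^ m))) : Set ↥(twistedG2 K (3 ^ m))) := by
      rw [← heq]
      exact ⟨_, hmem, rfl⟩
    rw [SetLike.mem_coe, memB] at h1
    have h1' : (n₀ : GL chevG2.Idx K) * u0 K * (n₀ : GL chevG2.Idx K) ∈ chevG2.borelSubgroup K := by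
      rw [← hsv]
      exact h1
    have h2 : (n₀ : GL chevG2.Idx K) * u0 K * (n₀ : GL chevG2.Idx K)⁻¹ ∈ chevG2.borelSubgroup K := by
      have e : (n₀ : GL chevG2.Idx K) * u0 K * (n₀ : GL chevG2.Idx K)⁻¹ =
          ((n₀ : GL chevG2.Idx K) * u0 K * (n₀ : GL chevG2.Idx K)) *
            ((n₀ : GL chevG2.Idx K) * (n₀ : GL chevG2.Idx K))⁻¹ := by group
      rw [e]
      exact mul_mem h1' (inv_mem (hHB hn₀n₀))
    have h3 := theta_w0_conj n₀ hθ₀ (u0 K) u0_mem_pos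
    have h4 : (n₀ : GL chevG2.Idx K) * u0 K * (n₀ : GL chevG2.Idx K)⁻¹ ∈
        chevG2.borelSubgroup K ⊓ chevG2.negUnipotent K := ⟨h2, h3⟩
    rw [borel_inf_neg, Subgroup.mem_bot] at h4
    apply u0_ne_one (K := K)
    have e : u0 K = (n₀ : GL chevG2.Idx K)⁻¹ * ((n₀ : GL chevG2.Idx K) * u0 K * (n₀ : GL chevG2.Idx K)⁻¹) *
        (n₀ : GL chevG2.Idx K) := by group
    rw [e, h4]
    group

end Cfsg.Agent.Helper18.Ree
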