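import Cfsg.Agent.Helper18.Ree.BNPairRee
import Cfsg.Agent.Helper18.Ree.DiagChar

/-!
The normal core of `B¹` in `²G₂` is trivial.
-/

set_option autoImplicit false
set_option maxRecDepth 100000

namespace Cfsg.Agent.Helper18.Ree

open Cfsg Cfsg.Lie Cfsg.Agent.Helper18

variable {K : Type*} [Field K]

theorem conj_mul_aux {G : Type*} [Group G] {k a a' b b' : G} (h1 : k * a = a' * k) (h2 : k * b = b' * k) :
    k * (a * b) = a' * b' * k := by
  rw [← mul_assoc, h1, mul_assoc, h2, mul_assoc]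

theorem nfGL_conj (k : GL chevG2.Idx K) (χ : ℕ → K)
    (hc : ∀ r < 12, ∀ t : K, k * xGL chevG2 K r t = xGL chevG2 K r (χ r * t) * k) (s r c d e f : K) :
    k * nfGL s r c d e f = nfGL (χ 6 * s) (χ 7 * r) (χ 8 * c) (χ 9 * d) (χ 10 * e) (χ 11 * f) * k := by
  unfold nfGL
  exact conj_mul_aux (conj_mul_aux (hc 6 (by decide) s) (hc 7 (by decide) r))
    (conj_mul_aux (conj_mul_aux (conj_mul_aux (hc 8 (by decide) c) (hc 9 (by decide) d)) (hc 10 (by decide) e))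
      (hc 11 (by decide) f))

/-- an element of `H` commuting with three particular elements of `U¹` is trivial -/
theorem diag_eq_one_of_commute (k : GL chevG2.Idx K) (hk : k ∈ chevG2.diagonalSubgroup K)
    (h1 : k * nfGL (1 : K) 1 0 0 1 1 = nfGL (1 : K) 1 0 0 1 1 * k)
    (h2 : k * nfGL (0 : K) 0 1 0 1 0 = nfGL (0 : K) 0 1 0 1 0 * k)
    (h3 : k * nfGL (0 : K) 0 0 1 0 1 = nfGL (0 : K) 0 0 1 0 1 * k) : k = 1 := by
  obtain ⟨χ, hχ, hd, hc, hn⟩ := diag_char_neg chevG2 hG2 k hk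
  rw [nfGL_conj k χ hc] at h1 h2 h3
  have e1 := nfGL_injective _ _ _ _ _ _ _ _ _ _ _ _ (mul_right_cancel h1)
  have e2 := nfGL_injective _ _ _ _ _ _ _ _ _ _ _ _ (mul_right_cancel h2)
  have e3 := nfGL_injective _ _ _ _ _ _ _ _ _ _ _ _ (mul_right_cancel h3)
  have hpos : ∀ r, 6 ≤ r → r < 12 → χ r = 1 := by
    intro r h6 h12
    interval_cases r
    · simpa using e1.1
    · simpa using e1.2.1
    · simpa using e2.2.2.1
    · simpa using e3.2.2.2.1
    · simpa using e1.2.2.2.2.1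
    · simpa using e1.2.2.2.2.2
  have hall : ∀ r, r < 12 → χ r = 1 := by
    intro r hr
    by_cases h6 : 6 ≤ r
    · exact hpos r h6 hr
    · have hneg : chevG2.neg (chevG2.neg r) = r := by
        interval_cases r <;> decide
      have hlt : chevG2.neg r < 12 := neg_lt r hr
      have h6' : 6 ≤ chevG2.neg r := by
        interval_cases r <;> decide
      have := hn (chevG2.neg r) hlt
      rw [hneg, hpos _ h6' hlt, mul_one] at this
      exact this
  apply Units.ext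
  rw [hd, Units.val_one, ← Matrix.diagonal_one]
  congr 1
  funext j
  rcases j with a | s
  · rfl
  · exact hall s.val s.2

end Cfsg.Agent.Helper18.Ree

namespace Cfsg.Agent.Helper18.Ree

open Cfsg Cfsg.Lie Cfsg.Agent.Helper18

variable {K : Type*} [Field K]

theorem nf1_mem_twisted [CharP K 3] (θ : ℕ) (hθ : θ ≠ 0) : nfGL (1 : K) 1 0 0 1 1 ∈ twistedG2 K θ := by
  have h := wordU_mem_twistedG2 (K := K) θ 1 0 0
  have e0 := (posSys (K := K)).word_eq θ 1 0 0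
  have e1 := (posSys (K := K)).ab_to_ba 1 1 1 1 0 0
  have e2 : (posSys (K := K)).word θ 1 0 0 =
      (posSys (K := K)).Xb 1 * (posSys (K := K)).Xa 1 * (posSys (K := K)).hh 0 0 1 1 := by
    rw [e0]
    simp only [one_pow, zero_pow hθ, add_zero]
    rw [e1]
    have a1 : (-(1 * 1) + 1 : K) = 0 := by norm_num
    have a2 : (-(1 ^ 2 * 1) + 1 : K) = 0 := by norm_num
    have a3 : ((1 : K) ^ 3 * 1 + 0) = 1 := by norm_num
    have a4 : ((1 : K) ^ 3 * 1 ^ 2 + 0) = 1 := by norm_num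
    rw [a1, a2, a3, a4]
  rw [e2, posSys_nf_val] at h
  exact h

theorem nf2_mem_twisted [CharP K 3] (θ : ℕ) (hθ : θ ≠ 0) : nfGL (0 : K) 0 1 0 1 0 ∈ twistedG2 K θ := by
  have h := wordU_mem_twistedG2 (K := K) θ 0 1 0
  have e : (((posSys (K := K)).word θ 0 1 0 : ↥(chevG2.group K)) : GL chevG2.Idx K) = nfGL (0 : K) 0 1 0 1 0 := by
    unfold Sys.word posSys nfGL
    simp only [Subgroup.coe_mul]
    show xGL chevG2 K 7 _ * xGL chevG2 K 6 _ * xGL chevG2 K 8 _ * xGL chevG2 K 9 _ * xGL chevG2 K 10 _ *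
      xGL chevG2 K 11 _ = _
    simp [hθ, xGL_zero' chevG2 hG2]
  rw [← e]
  exact h

theorem nf3_mem_twisted [CharP K 3] (θ : ℕ) (hθ : θ ≠ 0) : nfGL (0 : K) 0 0 1 0 1 ∈ twistedG2 K θ := by
  have h := u0_mem_twisted (K := K) θ hθ
  have e : u0 K = nfGL (0 : K) 0 0 1 0 1 := by
    unfold u0 nfGL
    simp [xGL_zero' chevG2 hG2]
  rw [← e]
  exact h

theorem core_ree [Fintype K] {m : ℕ} (hK : Fintype.card K = 3 ^ (2 * m + 1)) :
    ((chevG2.borelSubgroup K ⊓ twistedG2 K (3 ^ m)).subgroupOf (twistedG2 K (3 ^ m))).normalCore = ⊥ := by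
  haveI := charP_three hK
  obtain ⟨σ, hσ'⟩ := exists_sigma hK
  have hσ : SigmaSpec m σ := hσ'
  obtain ⟨n₀, hn₀G, hθ₀⟩ := exists_n0 hK hσ
  have hθ : (3 : ℕ) ^ m ≠ 0 := pow_ne_zero _ (by norm_num)
  have memB : ∀ x : ↥(twistedG2 K (3 ^ m)),
      x ∈ (chevG2.borelSubgroup K ⊓ twistedG2 K (3 ^ m)).subgroupOf (twistedG2 K (3 ^ m)) ↔
        (x : GL chevG2.Idx K) ∈ chevG2.borelSubgroup K := by
    intro x
    rw [Subgroup.mem_subgroupOf, Subgroup.mem_inf]
    exact ⟨fun h => h.1, fun h => ⟨h, x.2⟩⟩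
  have hKH : ∀ k : ↥(twistedG2 K (3 ^ m)),
      k ∈ ((chevG2.borelSubgroup K ⊓ twistedG2 K (3 ^ m)).subgroupOf (twistedG2 K (3 ^ m))).normalCore →
      (k : GL chevG2.Idx K) ∈ chevG2.diagonalSubgroup K := by
    intro k hk
    have h1 : (k : GL chevG2.Idx K) ∈ chevG2.borelSubgroup K := (memB k).mp (Subgroup.normalCore_le _ hk)
    have h2 : (n₀ : GL chevG2.Idx K)⁻¹ * (k : GL chevG2.Idx K) * (n₀ : GL chevG2.Idx K) ∈
        chevG2.borelSubgroup K := by
      have := hk (⟨(n₀ : GL chevG2.Idx K)⁻¹, inv_mem hn₀G⟩ : ↥(twistedG2 K (3 ^ m)))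
      have := (memB _).mp this
      simpa using this
    obtain ⟨u, hu, h, hh, e⟩ := borel_decomp' _ h2
    have h3 : (k : GL chevG2.Idx K) = ((n₀ : GL chevG2.Idx K) * u * (n₀ : GL chevG2.Idx K)⁻¹) *
        ((n₀ : GL chevG2.Idx K) * h * (n₀ : GL chevG2.Idx K)⁻¹) := by
      have : (n₀ : GL chevG2.Idx K) * u * (n₀ : GL chevG2.Idx K)⁻¹ *
          ((n₀ : GL chevG2.Idx K) * h * (n₀ : GL chevG2.Idx K)⁻¹) =
          (n₀ : GL chevG2.Idx K) * (u * h) * (n₀ : GL chevG2.Idx K)⁻¹ := by group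
      rw [this, ← e]
      group
    have h4 := theta_w0_conj n₀ hθ₀ u hu
    have h5 : (n₀ : GL chevG2.Idx K) * h * (n₀ : GL chevG2.Idx K)⁻¹ ∈ chevG2.diagonalSubgroup K :=
      (Subgroup.mem_normalizer_iff.mp (monomialSubgroup_le_normalizer chevG2 hG2 n₀.2) h).mp hh
    have h6 : (k : GL chevG2.Idx K) ∈ chevG2.negUnipotent K ⊔ chevG2.diagonalSubgroup K := by
      rw [h3]
      exact mul_mem (Subgroup.mem_sup_left h4) (Subgroup.mem_sup_right h5)
    rw [← (Cfsg.Agent.S1037.result (F := K) chevG2 hG2).2]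
    exact ⟨h1, h6⟩
  rw [eq_bot_iff]
  intro k hk
  rw [Subgroup.mem_bot]
  have hnormal : ((chevG2.borelSubgroup K ⊓ twistedG2 K (3 ^ m)).subgroupOf
      (twistedG2 K (3 ^ m))).normalCore.Normal := Subgroup.normalCore_normal _
  have hkH := hKH k hk
  have hcomm : ∀ u : GL chevG2.Idx K, u ∈ chevG2.posUnipotent K → u ∈ twistedG2 K (3 ^ m) →
      (k : GL chevG2.Idx K) * u = u * (k : GL chevG2.Idx K) := by
    intro u hu huG
    have h1 := hKH _ (hnormal.conj_mem k hk ⟨u, huG⟩)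
    have h1' : u * (k : GL chevG2.Idx K) * u⁻¹ ∈ chevG2.diagonalSubgroup K := by simpa using h1
    have h2 : u * (k : GL chevG2.Idx K) * u⁻¹ * (k : GL chevG2.Idx K)⁻¹ ∈
        chevG2.posUnipotent K ⊓ chevG2.diagonalSubgroup K := by
      refine ⟨?_, Subgroup.mul_mem _ h1' (Subgroup.inv_mem _ hkH)⟩
      have hnorm := (Cfsg.Agent.S1036.result (F := K) chevG2 hG2).1 hkH
      have h3 : (k : GL chevG2.Idx K) * u⁻¹ * (k : GL chevG2.Idx K)⁻¹ ∈ chevG2.posUnipotent K :=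
        (Subgroup.mem_normalizer_iff.mp hnorm u⁻¹).mp (Subgroup.inv_mem _ hu)
      have e : u * (k : GL chevG2.Idx K) * u⁻¹ * (k : GL chevG2.Idx K)⁻¹ =
          u * ((k : GL chevG2.Idx K) * u⁻¹ * (k : GL chevG2.Idx K)⁻¹) := by group
      rw [e]
      exact Subgroup.mul_mem _ hu h3
    rw [pos_inf_diag, Subgroup.mem_bot] at h2
    calc (k : GL chevG2.Idx K) * u = (u * (k : GL chevG2.Idx K) * u⁻¹ * (k : GL chevG2.Idx K)⁻¹)⁻¹ *
          (u * (k : GL chevG2.Idx K)) := by group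
      _ = u * (k : GL chevG2.Idx K) := by rw [h2, inv_one, one_mul]
  have e1 := hcomm _ (nfGL_mem _ _ _ _ _ _) (nf1_mem_twisted _ hθ)
  have e2 := hcomm _ (nfGL_mem _ _ _ _ _ _) (nf2_mem_twisted _ hθ)
  have e3 := hcomm _ (nfGL_mem _ _ _ _ _ _) (nf3_mem_twisted _ hθ)
  exact Subtype.ext (diag_eq_one_of_commute _ hkH e1 e2 e3)

end Cfsg.Agent.Helper18.Ree
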