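import Cfsg.Agent.Helper18.Ree.FixedForm

/-!
An element of `G₂(K)` fixed by the twist lies in `B`, or in `U^σ n U^σ` with `n ∈ N^σ` representing `w₀`.
-/

set_option autoImplicit false
set_option maxRecDepth 100000

namespace Cfsg.Agent.Helper18.Ree

open Cfsg Cfsg.Lie Cfsg.Agent.Helper18

variable {K : Type*} [Field K] {σ : ↥(chevG2.group K) ≃* ↥(chevG2.group K)}

theorem borel_decomp' (b : GL chevG2.Idx K) (hb : b ∈ chevG2.borelSubgroup K) :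
    ∃ u ∈ chevG2.posUnipotent K, ∃ h ∈ chevG2.diagonalSubgroup K, b = u * h := by
  have hle := (Cfsg.Agent.S1036.result (F := K) chevG2 hG2).1
  have hset := Subgroup.coe_mul_of_right_le_normalizer_left (chevG2.posUnipotent K) (chevG2.diagonalSubgroup K) hle
  have hmem : b ∈ ((chevG2.posUnipotent K ⊔ chevG2.diagonalSubgroup K : Subgroup (GL chevG2.Idx K)) :
      Set (GL chevG2.Idx K)) := hb
  rw [hset] at hmem
  obtain ⟨u, hu, h, hh, rfl⟩ := hmem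
  exact ⟨u, hu, h, hh, rfl⟩

theorem pos_inf_diag : chevG2.posUnipotent K ⊓ chevG2.diagonalSubgroup K = ⊥ :=
  (Cfsg.Agent.S1036.result (F := K) chevG2 hG2).2

theorem fixed_cases [Fintype K] {m : ℕ} (hK : Fintype.card K = 3 ^ (2 * m + 1)) [CharP K 3] (hσ : SigmaSpec m σ)
    (g : GL chevG2.Idx K) (hg : g ∈ FixS σ) :
    g ∈ chevG2.borelSubgroup K ∨
    ∃ u₂ ∈ chevG2.posUnipotent K ⊓ FixS σ, ∃ n₁ : ↥(chevG2.monomialSubgroup K),
      (n₁ : GL chevG2.Idx K) ∈ FixS σ ∧ thetaG2 n₁ = w0G2 ∧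
      ∃ u₁ ∈ chevG2.posUnipotent K ⊓ FixS σ, g = u₂ * (n₁ : GL chevG2.Idx K) * u₁ := by
  obtain ⟨hgG, hfix⟩ := mem_FixS_iff.mp hg
  obtain ⟨hex, huniq⟩ := Cfsg.Agent.S1100.result (F := K) chevG2 hG2
  obtain ⟨b, hb, n, hn, u, hu, rfl⟩ := hex g hgG
  have hu' : u ∈ Uneg n := hu
  obtain ⟨hbG, hσb⟩ := sv_borel hσ b hb
  obtain ⟨hnG, hσn⟩ := sv_monomial hσ n hn
  obtain ⟨huG, hσu⟩ := sv_Uneg hK hσ n hnG u hu'
  have e : b * n * u = sv σ b * sv σ n * sv σ u := by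
    rw [← sv_mul hbG hnG, ← sv_mul (mul_mem hbG hnG) huG]
    exact hfix.symm
  have h1 := (huniq b (sv σ b) n (sv σ n) u (sv σ u) hb hσb hn hσn hu hσu e).1
  have hθ : thetaG2 (⟨sv σ n, hσn⟩ : ↥(chevG2.monomialSubgroup K)) = thetaG2 ⟨n, hn⟩ := by
    have : thetaG2 ((⟨n, hn⟩ : ↥(chevG2.monomialSubgroup K))⁻¹ * ⟨sv σ n, hσn⟩) = 1 :=
      (thetaG2_eq_one_iff _).mpr h1
    rw [map_mul, map_inv, inv_mul_eq_one] at this
    exact this.symm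
  have hcomm := theta_comm hσ ⟨n, hn⟩ ⟨sv σ n, hσn⟩ rfl hθ
  rcases eq_one_or_w0 _ hcomm with h0 | h0
  · left
    have hnH : n ∈ chevG2.diagonalSubgroup K := (thetaG2_eq_one_iff ⟨n, hn⟩).mp h0
    exact mul_mem (mul_mem hb (Subgroup.mem_sup_right hnH)) (Subgroup.mem_sup_left (Uneg_le_pos n hu'))
  · right
    have hh'' : sv σ n * n⁻¹ ∈ chevG2.diagonalSubgroup K := by
      have hnorm := monomialSubgroup_le_normalizer (F := K) chevG2 hG2 hn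
      rw [Subgroup.mem_normalizer_iff] at hnorm
      have h2 := (hnorm _).mp h1
      have e2 : n * (n⁻¹ * sv σ n) * n⁻¹ = sv σ n * n⁻¹ := by group
      rw [e2] at h2
      exact h2
    have esv : sv σ n = (sv σ n * n⁻¹) * n := by group
    have hσu2 : sv σ u ∈ Uneg n := Uneg_mul_le (sv σ n * n⁻¹) n hh'' (by rw [← esv]; exact hσu)
    have e' : b * n * u = (sv σ b * (sv σ n * n⁻¹)) * n * sv σ u := by
      rw [e]; group
    obtain ⟨eb, eu⟩ := (huniq b (sv σ b * (sv σ n * n⁻¹)) n n u (sv σ u) hb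
      (mul_mem hσb (Subgroup.mem_sup_right hh'')) hn hn hu hσu2 e').2 rfl
    obtain ⟨u₂, hu₂, h₂, hh₂, rfl⟩ := borel_decomp' b hb
    obtain ⟨hu₂G, hσu₂⟩ := sv_posUnipotent hσ u₂ hu₂
    obtain ⟨hh₂G, hσh₂⟩ := sv_diagonal hσ h₂ hh₂
    rw [sv_mul hu₂G hh₂G] at eb
    have hu₂fix : sv σ u₂ = u₂ := by
      have hmem : (sv σ u₂)⁻¹ * u₂ ∈ chevG2.posUnipotent K ⊓ chevG2.diagonalSubgroup K := by
        refine ⟨Subgroup.mul_mem _ (Subgroup.inv_mem _ hσu₂) hu₂, ?_⟩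
        have e3 : (sv σ u₂)⁻¹ * u₂ = sv σ h₂ * (sv σ n * n⁻¹) * h₂⁻¹ := by
          calc (sv σ u₂)⁻¹ * u₂ = (sv σ u₂)⁻¹ * (u₂ * h₂) * h₂⁻¹ := by group
            _ = (sv σ u₂)⁻¹ * (sv σ u₂ * sv σ h₂ * (sv σ n * n⁻¹)) * h₂⁻¹ := by rw [eb]
            _ = sv σ h₂ * (sv σ n * n⁻¹) * h₂⁻¹ := by group
        rw [e3]
        exact Subgroup.mul_mem _ (Subgroup.mul_mem _ hσh₂ hh'') (Subgroup.inv_mem _ hh₂)
      rw [pos_inf_diag, Subgroup.mem_bot, inv_mul_eq_one] at hmem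
      exact hmem
    have hmN : h₂ * n ∈ chevG2.monomialSubgroup K :=
      mul_mem (diagonalSubgroup_le_monomialSubgroup chevG2 hh₂) hn
    refine ⟨u₂, ⟨hu₂, mem_FixS_iff.mpr ⟨hu₂G, hu₂fix⟩⟩, ⟨h₂ * n, hmN⟩, ?_, ?_, u,
      ⟨Uneg_le_pos n hu', mem_FixS_iff.mpr ⟨huG, eu.symm⟩⟩, by simp only [mul_assoc]⟩
    · have em : h₂ * n = u₂⁻¹ * (u₂ * h₂ * n * u) * u⁻¹ := by group
      refine mem_FixS_iff.mpr ⟨mul_mem hh₂G hnG, ?_⟩
      show sv σ (h₂ * n) = h₂ * n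
      conv_lhs => rw [em]
      rw [sv_mul (mul_mem (inv_mem hu₂G) hgG) (inv_mem huG), sv_mul (inv_mem hu₂G) hgG, sv_inv hu₂G, sv_inv huG,
        hu₂fix, hfix, ← eu]
      group
    · have : (⟨h₂ * n, hmN⟩ : ↥(chevG2.monomialSubgroup K)) =
          ⟨h₂, diagonalSubgroup_le_monomialSubgroup chevG2 hh₂⟩ * ⟨n, hn⟩ := rfl
      rw [this, map_mul, (thetaG2_eq_one_iff _).mpr hh₂, one_mul, h0]

end Cfsg.Agent.Helper18.Ree
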