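import Cfsg.Agent.Helper18.GraphAut.Types
import Cfsg.Agent.S1055
import Cfsg.Agent.S1080
import Cfsg.Prelude.Def_LieTwisted

/-!
The twisting automorphism `σ` of `G₂(K)`, `|K| = 3^(2m+1)`: the graph automorphism composed with the field
automorphism `t ↦ t^(3^m)`; `σ(x_r(t)) = x_{ρ r}(t^(3^m λ_r))`.
-/

set_option autoImplicit false

namespace Cfsg.Agent.Helper18.Ree

open Cfsg Cfsg.Lie Cfsg.Agent.Helper18.GraphAut

variable {K : Type*} [Field K] [Fintype K]

theorem charP_three {m : ℕ} (hK : Fintype.card K = 3 ^ (2 * m + 1)) : CharP K 3 := by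
  obtain ⟨r, hr⟩ := CharP.exists K
  have := hr
  obtain ⟨n, hrp, hn⟩ := FiniteField.card K r
  have h1 : r ∣ 3 ^ (2 * m + 1) := by
    rw [← hK, hn]
    exact dvd_pow_self r n.ne_zero
  have h2 : r ∣ 3 := hrp.dvd_of_dvd_pow h1
  have h3 : r = 3 := (Nat.prime_dvd_prime_iff_eq hrp Nat.prime_three).mp h2
  rw [← h3]
  exact hr

/-- `t ^ (3^(2m+1)) = t` -/
theorem pow_card_eq {m : ℕ} (hK : Fintype.card K = 3 ^ (2 * m + 1)) (t : K) : t ^ (3 ^ (2 * m + 1)) = t := by
  rw [← hK]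
  exact FiniteField.pow_card t

/-- the root permutation of the twist -/
def rho (r : ℕ) : ℕ := gdG2.rho.getD r 0

/-- the exponent of the twist on the root `r` -/
def sexp (m r : ℕ) : ℕ := 3 ^ m * gdG2.lam r

theorem exists_sigma {m : ℕ} (hK : Fintype.card K = 3 ^ (2 * m + 1)) :
    ∃ σ : ↥(chevG2.group K) ≃* ↥(chevG2.group K), ∀ (g : ↥(chevG2.group K)) (r : ℕ) (t : K), r < 12 →
      ((g : GL chevG2.Idx K) : Matrix chevG2.Idx chevG2.Idx K) = chevG2.x K r t →
      ((σ g : GL chevG2.Idx K) : Matrix chevG2.Idx chevG2.Idx K) = chevG2.x K (rho r) (t ^ sexp m r) := by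
  haveI := charP_three hK
  haveI : Fact (Nat.Prime 3) := ⟨Nat.prime_three⟩
  haveI : PerfectRing K 3 := inferInstance
  have hD : chevG2 ∈ [chevG2, chevB2, chevD4, chevF4, chevE6, chevE7, chevE8] := by simp
  have hperf : ∀ x : K, ∃ y : K, y ^ 3 = x := by
    intro x
    obtain ⟨y, hy⟩ := (frobeniusEquiv K 3).surjective x
    exact ⟨y, by rw [← hy, frobeniusEquiv_apply, frobenius_def]⟩
  have h2 : ((2 : ℕ) : K) ≠ 0 := by
    intro h
    have := (CharP.cast_eq_zero_iff K 3 2).mp h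
    omega
  have hF : ∃ a : K, a ≠ 0 ∧ a ≠ 1 := by
    refine ⟨((2 : ℕ) : K), h2, ?_⟩
    intro h
    have h3 : (1 : K) = 0 := by
      have : ((2 : ℕ) : K) = 1 + 1 := by norm_num
      rw [this] at h
      linear_combination h
    exact one_ne_zero h3
  obtain ⟨hsimple, -⟩ := Cfsg.Agent.S1055.result (F := K) hF
  obtain ⟨α, hα⟩ := graphAut_G2 hperf (normalHyp_of_isSimpleGroup _)
  obtain ⟨φ, hφ⟩ := Cfsg.Agent.S1080.result (F := K) chevG2 hD (iterateFrobeniusEquiv K 3 m)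
  refine ⟨φ.trans α, ?_⟩
  intro g r t hr hg
  have h1 := hφ g r t hr hg
  have h2 := hα (φ g) r _ hr h1
  rw [MulEquiv.trans_apply, h2, iterateFrobeniusEquiv_def, ← pow_mul]
  rfl

end Cfsg.Agent.Helper18.Ree
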