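import Cfsg.Agent.Helper19.Poinc.Data
import Cfsg.Agent.Helper19.Twist.RootInj
import Cfsg.Agent.Helper18.Ree.Sigma
import Cfsg.Agent.S1024
import Cfsg.Agent.S1031
import Cfsg.Agent.S1038

/-!
The Weyl group of `G₂` and the symmetry `ρ` of the twist: the homomorphism `N → W` (as in helper19's
`Twist/WeylN.lean`), and the fact that the only elements of `W` commuting with `ρ` are `1` and `w₀`.
-/

set_option autoImplicit false
set_option maxRecDepth 100000

namespace Cfsg.Agent.Helper18.Ree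

open Cfsg Cfsg.Lie Cfsg.Agent.Helper18 Cfsg.Agent.Helper19.Cox Cfsg.Agent.Helper19.Poinc

theorem hG2' : chevG2 ∈ [chevG2, chevB2, chevD4, chevF4, chevE6, chevE7, chevE8] := by simp

theorem rootInjOK_G2 : Cfsg.Agent.Helper19.Twist.rootInjOK chevG2 = true := by decide +kernel

/-- the twelve elements of the Weyl group, as tables of their action on the roots -/
def weylTabs : List (List ℕ) :=
  [[0, 1, 2, 3, 4, 5, 6, 7, 8, 9, 10, 11],
   [0, 5, 3, 2, 7, 1, 10, 4, 9, 8, 6, 11],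
   [1, 0, 2, 4, 3, 6, 5, 8, 7, 9, 11, 10],
   [1, 6, 4, 2, 8, 0, 11, 3, 9, 7, 5, 10],
   [5, 0, 3, 7, 2, 10, 1, 9, 4, 8, 11, 6],
   [5, 10, 7, 3, 9, 0, 11, 2, 8, 4, 1, 6],
   [6, 1, 4, 8, 2, 11, 0, 9, 3, 7, 10, 5],
   [6, 11, 8, 4, 9, 1, 10, 2, 7, 3, 0, 5],
   [10, 5, 7, 9, 3, 11, 0, 8, 2, 4, 6, 1],
   [10, 11, 9, 7, 8, 5, 6, 3, 4, 2, 0, 1],
   [11, 6, 8, 9, 4, 10, 1, 7, 2, 3, 5, 0],
   [11, 10, 9, 8, 7, 6, 5, 4, 3, 2, 1, 0]]

/-- the table of the action of a word -/
def tabOf (w : List ℕ) : List ℕ := (List.range 12).map (Cfsg.Agent.Helper18.rho chevG2 w)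

theorem weylTabs_closed : ∀ T ∈ weylTabs, ∀ i < 2, T.map (chevG2.reflectRoot i) ∈ weylTabs := by decide +kernel

theorem tabOf_mem (w : List ℕ) (hw : ∀ i ∈ w, i < 2) : tabOf w ∈ weylTabs := by
  induction w with
  | nil => decide +kernel
  | cons i w ih =>
    have hw' : ∀ j ∈ w, j < 2 := fun j hj => hw j (List.mem_cons_of_mem _ hj)
    have e : tabOf (i :: w) = (tabOf w).map (chevG2.reflectRoot i) := by
      unfold tabOf
      rw [List.map_map]
      rfl
    rw [e]
    exact weylTabs_closed _ (ih hw') i (hw i List.mem_cons_self)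

theorem weylTabs_fix : ∀ T ∈ weylTabs, (∀ r < 12, T.getD (rho r) 0 = rho (T.getD r 0)) →
    T = [0, 1, 2, 3, 4, 5, 6, 7, 8, 9, 10, 11] ∨ T = [11, 10, 9, 8, 7, 6, 5, 4, 3, 2, 1, 0] := by
  decide +kernel

theorem tabOf_getD (w : List ℕ) (r : ℕ) (hr : r < 12) : (tabOf w).getD r 0 = Cfsg.Agent.Helper18.rho chevG2 w r := by
  unfold tabOf
  rw [List.getD_eq_getElem _ _ (by simpa using hr)]
  simp

/-- the word of the longest element -/
def w0word : List ℕ := [0, 1, 0, 1, 0, 1]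

theorem tabOf_w0 : tabOf w0word = [11, 10, 9, 8, 7, 6, 5, 4, 3, 2, 1, 0] := by decide +kernel

section Theta

variable {F : Type*} [Field F]

theorem h31G2 : NConjHyp chevG2 F := fun i s hi hs => Cfsg.Agent.S1031.result chevG2 hG2' i s hi hs

instance hnG2 : (HN chevG2 F).Normal := Cfsg.Agent.S1038.result chevG2 hG2'

/-- the Weyl group -/
abbrev WG2 : Type := certG2.M.Group

/-- the action of the Weyl group on the roots -/
noncomputable abbrev phiG2 : WG2 →* Equiv.Perm ℕ := phi certG2.M certG2.Mx certG2.hI certG2.hB certG2.hMx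

theorem psiG2_bijective : Function.Bijective (psiC (F := F) chevG2 hG2' certG2 h31G2) :=
  ⟨psi_injective chevG2 hG2' certG2.M certG2.Mx certG2.hMx certG2.tabs certG2.ht certG2.hbr h31G2 certG2.hI
      certG2.hB certG2.hinj,
   psi_surjective chevG2 hG2' certG2.M certG2.Mx certG2.hMx certG2.tabs certG2.ht certG2.hbr h31G2 certG2.words
      certG2.hreach⟩

/-- `W ≃ N / H` -/
noncomputable def psiEG2 : WG2 ≃* (↥(chevG2.monomialSubgroup F) ⧸ HN chevG2 F) :=
  MulEquiv.ofBijective (psiC (F := F) chevG2 hG2' certG2 h31G2) psiG2_bijective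

/-- `N → W` -/
noncomputable def thetaG2 : ↥(chevG2.monomialSubgroup F) →* WG2 :=
  (psiEG2 (F := F)).symm.toMonoidHom.comp (QuotientGroup.mk' (HN chevG2 F))

theorem thetaG2_spec (n : ↥(chevG2.monomialSubgroup F)) :
    (QuotientGroup.mk n : ↥(chevG2.monomialSubgroup F) ⧸ HN chevG2 F) =
      psiC chevG2 hG2' certG2 h31G2 (thetaG2 n) := by
  have : psiC (F := F) chevG2 hG2' certG2 h31G2 (thetaG2 n) = psiEG2 (thetaG2 n) := rfl
  rw [this]
  unfold thetaG2
  rw [MonoidHom.comp_apply]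
  exact ((psiEG2 (F := F)).apply_symm_apply _).symm

theorem thetaG2_eq_one_iff (n : ↥(chevG2.monomialSubgroup F)) :
    thetaG2 n = 1 ↔ (n : GL chevG2.Idx F) ∈ chevG2.diagonalSubgroup F := by
  unfold thetaG2
  rw [MonoidHom.comp_apply]
  change (psiEG2 (F := F)).symm (QuotientGroup.mk' (HN chevG2 F) n) = 1 ↔ _
  rw [MulEquiv.map_eq_one_iff, QuotientGroup.mk'_apply, QuotientGroup.eq_one_iff, Subgroup.mem_subgroupOf]

/-- conjugation by `n` maps `X_s` to `X_{w s}` -/
theorem thetaG2_conj (n : ↥(chevG2.monomialSubgroup F)) (s : ℕ) (hs : s < 12) (t : F) :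
    phiG2 (thetaG2 n) s < 12 ∧
      ∃ t' : F, (n : GL chevG2.Idx F) * xGL chevG2 F s t * (n : GL chevG2.Idx F)⁻¹ =
        xGL chevG2 F (phiG2 (thetaG2 n) s) t' :=
  conj_rep chevG2 hG2' certG2 h31G2 (thetaG2 n) n (thetaG2_spec n) s hs t

end Theta

/-- the longest element -/
noncomputable def w0G2 : WG2 := gp certG2.M w0word

theorem phiG2_gp (w : List ℕ) (hw : ∀ i ∈ w, i < 2) (x : ℕ) (hx : x < 12) :
    phiG2 (gp certG2.M w) x = Cfsg.Agent.Helper18.rho chevG2 w x := by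
  rw [phi_gp]
  exact (actW_eq_rho chevG2 certG2.tabs certG2.ht w hw x hx).1

theorem phiG2_of_not_lt (g : WG2) (x : ℕ) (hx : ¬ x < 12) : phiG2 g x = x := by
  obtain ⟨w, -, rfl⟩ := exists_word certG2.M g
  rw [phi_gp]
  exact actW_of_not_lt _ _ _ _ _ hx

theorem phiG2_w0 (x : ℕ) (hx : x < 12) : phiG2 w0G2 x = 11 - x := by
  unfold w0G2
  rw [phiG2_gp w0word (by decide) x hx, ← tabOf_getD w0word x hx, tabOf_w0]
  interval_cases x <;> rfl

/-- an element of `W` commuting with `ρ` is `1` or `w₀` -/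
theorem eq_one_or_w0 (g : WG2) (hg : ∀ r < 12, phiG2 g (rho r) = rho (phiG2 g r)) : g = 1 ∨ g = w0G2 := by
  obtain ⟨w, hw, rfl⟩ := exists_word certG2.M g
  have hrho : ∀ r < 12, rho r < 12 := by decide
  have h1 := weylTabs_fix (tabOf w) (tabOf_mem w hw) (by
    intro r hr
    rw [tabOf_getD w _ (hrho r hr), tabOf_getD w r hr, ← phiG2_gp w hw _ (hrho r hr), ← phiG2_gp w hw r hr]
    exact hg r hr)
  rcases h1 with h1 | h1
  · left
    apply certG2.hinj
    rw [map_one]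
    apply Equiv.ext
    intro x
    rw [Equiv.Perm.one_apply]
    by_cases hx : x < 12
    · rw [phiG2_gp w hw x hx, ← tabOf_getD w x hx, h1]
      interval_cases x <;> rfl
    · exact phiG2_of_not_lt _ x hx
  · right
    apply certG2.hinj
    apply Equiv.ext
    intro x
    by_cases hx : x < 12
    · have e1 : phiG2 (gp certG2.M w) x = 11 - x := by
        rw [phiG2_gp w hw x hx, ← tabOf_getD w x hx, h1]
        interval_cases x <;> rfl
      exact e1.trans (phiG2_w0 x hx).symm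
    · exact (phiG2_of_not_lt _ x hx).trans (phiG2_of_not_lt _ x hx).symm

theorem w0G2_mul_self : w0G2 * w0G2 = 1 := by
  apply certG2.hinj
  rw [map_one, map_mul]
  apply Equiv.ext
  intro x
  rw [Equiv.Perm.mul_apply, Equiv.Perm.one_apply]
  by_cases hx : x < 12
  · rw [phiG2_w0 x hx, phiG2_w0 _ (by omega)]
    omega
  · rw [phiG2_of_not_lt _ x hx, phiG2_of_not_lt _ x hx]

end Cfsg.Agent.Helper18.Ree
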