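import Cfsg.Agent.Helper18.Ree.Stable2
import Cfsg.Agent.Helper18.Ree.WeylG2
import Cfsg.Agent.Helper18.BNStruct
import Cfsg.Agent.S1100

/-!
The Bruhat normal form of the elements of `G₂(K)` fixed by the twist.
-/

set_option autoImplicit false
set_option maxRecDepth 100000

namespace Cfsg.Agent.Helper18.Ree

open Cfsg Cfsg.Lie Cfsg.Agent.Helper18

variable {K : Type*} [Field K] {σ : ↥(chevG2.group K) ≃* ↥(chevG2.group K)}

/-- the subgroup `U_n⁻` of the Bruhat normal form -/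
def Uneg (n : GL chevG2.Idx K) : Subgroup (GL chevG2.Idx K) :=
  Subgroup.closure {x : GL chevG2.Idx K | ∃ (r : ℕ) (t : K), chevG2.IsPosRoot r ∧
    (chevG2.rootSubgroup K r).map (MulAut.conj n).toMonoidHom ≤ chevG2.negUnipotent K ∧
      (x : Matrix chevG2.Idx chevG2.Idx K) = chevG2.x K r t}

theorem Uneg_le_pos (n : GL chevG2.Idx K) : Uneg n ≤ chevG2.posUnipotent K := by
  unfold Uneg ChevalleyDatum.posUnipotent
  apply Subgroup.closure_mono
  rintro x ⟨r, t, hr, -, hx⟩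
  exact ⟨r, t, hr, hx⟩

theorem Uneg_mul_le (h n : GL chevG2.Idx K) (hh : h ∈ chevG2.diagonalSubgroup K) : Uneg (h * n) ≤ Uneg n := by
  unfold Uneg
  apply Subgroup.closure_mono
  rintro x ⟨r, t, hr, hcond, hx⟩
  refine ⟨r, t, hr, ?_, hx⟩
  rintro y ⟨z, hz, rfl⟩
  have h1 : (MulAut.conj (h * n)).toMonoidHom z ∈ chevG2.negUnipotent K := hcond ⟨z, hz, rfl⟩
  have hnorm := diagonalSubgroup_le_normalizer_negUnipotent (F := K) chevG2 hG2 (Subgroup.inv_mem _ hh)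
  rw [Subgroup.mem_normalizer_iff] at hnorm
  have h2 := (hnorm _).mp h1
  have e : h⁻¹ * (MulAut.conj (h * n)).toMonoidHom z * h⁻¹⁻¹ = (MulAut.conj n).toMonoidHom z := by
    simp only [MulEquiv.toMonoidHom_eq_coe, MonoidHom.coe_coe, MulAut.conj_apply]
    group
  rw [e] at h2
  exact h2

theorem xGL_mem_rootSubgroup (r : ℕ) (t : K) : xGL chevG2 K r t ∈ chevG2.rootSubgroup K r :=
  Subgroup.subset_closure ⟨t, xGL_val chevG2 _ (triOK_of_mem chevG2 hG2) r t⟩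

/-- every element of `K` is an `e`-th power, `e` the exponent of the twist -/
theorem exists_pow_sexp [Fintype K] {m : ℕ} (hK : Fintype.card K = 3 ^ (2 * m + 1)) [CharP K 3] (r : ℕ) (s : K) :
    ∃ s' : K, s' ^ sexp m r = s := by
  have hF := fieldHyp hK
  unfold sexp GraphAut.GData.lam
  split_ifs
  · refine ⟨s ^ 3 ^ m, ?_⟩
    have : 3 ^ m * GraphAut.gdG2.p = 3 * 3 ^ m := by rw [mul_comm]; rfl
    rw [this]
    exact hF.hq s
  · refine ⟨s ^ (3 * 3 ^ m), ?_⟩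
    rw [mul_one]
    exact hF.hq' s

theorem sv_Uneg [Fintype K] {m : ℕ} (hK : Fintype.card K = 3 ^ (2 * m + 1)) [CharP K 3] (hσ : SigmaSpec m σ)
    (n : GL chevG2.Idx K) (hn : n ∈ chevG2.group K) (u : GL chevG2.Idx K) (hu : u ∈ Uneg n) :
    u ∈ chevG2.group K ∧ sv σ u ∈ Uneg (sv σ n) := by
  apply sv_closure _ _ _ u hu
  rintro x ⟨r, t, hr, hcond, hx⟩
  have hr' := (isPosRoot_G2 r).mp hr
  have e : x = xGL chevG2 K r t := Units.ext (by rw [hx, xGL_val _ _ (triOK_of_mem chevG2 hG2)])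
  have h1 := xGL_mem_group' (F := K) chevG2 hG2
  rw [e, sv_xGL hσ r hr'.2]
  refine ⟨h1 _ _, ?_⟩
  apply Subgroup.subset_closure
  refine ⟨rho r, _, (isPosRoot_G2 _).mpr (rho_pos r hr'), ?_, xGL_val _ _ (triOK_of_mem chevG2 hG2) _ _⟩
  rintro y ⟨z, hz, rfl⟩
  obtain ⟨s, rfl⟩ := mem_rootSubgroup chevG2 hG2 _ z hz
  obtain ⟨s', rfl⟩ := exists_pow_sexp hK r s
  have e2 : (MulAut.conj (sv σ n)).toMonoidHom (xGL chevG2 K (rho r) (s' ^ sexp m r)) =
      sv σ (n * xGL chevG2 K r s' * n⁻¹) := by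
    rw [sv_mul (mul_mem hn (h1 _ _)) (inv_mem hn), sv_mul hn (h1 _ _), sv_inv hn, sv_xGL hσ r hr'.2]
    simp [MulAut.conj_apply]
  rw [e2]
  apply (sv_negUnipotent hσ _ _).2
  have := hcond ⟨xGL chevG2 K r s', xGL_mem_rootSubgroup r s', rfl⟩
  simpa [MulAut.conj_apply] using this

theorem xGL_ne_one (r : ℕ) (hr : r < 12) (t : K) (ht : t ≠ 0) : xGL chevG2 K r t ≠ 1 := by
  intro h
  have h1 := congrArg (fun g : GL chevG2.Idx K => (g : Matrix chevG2.Idx chevG2.Idx K)) h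
  simp only [xGL_val chevG2 _ (triOK_of_mem chevG2 hG2), Units.val_one] at h1
  exact ht ((Cfsg.Agent.S1024.result chevG2 hG2 r hr t).mp h1)

/-- if `σ n` and `n` have the same image in the Weyl group, that image commutes with `ρ` -/
theorem theta_comm {m : ℕ} (hσ : SigmaSpec m σ) (n n' : ↥(chevG2.monomialSubgroup K))
    (hn' : sv σ (n : GL chevG2.Idx K) = n') (hθ : thetaG2 n' = thetaG2 n) :
    ∀ r < 12, phiG2 (thetaG2 n) (rho r) = rho (phiG2 (thetaG2 n) r) := by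
  intro r hr
  have hnG : (n : GL chevG2.Idx K) ∈ chevG2.group K :=
    (Cfsg.Agent.S1043.result (F := K) chevG2 hG2).2.1 n.2
  have h1 := xGL_mem_group' (F := K) chevG2 hG2
  obtain ⟨hlt, t', e1⟩ := thetaG2_conj n r hr 1
  obtain ⟨hlt2, t'', e2⟩ := thetaG2_conj n' (rho r) (rho_lt r hr) ((1 : K) ^ sexp m r)
  rw [hθ] at hlt2 e2
  have e3 := congrArg (sv σ) e1
  rw [sv_mul (mul_mem hnG (h1 _ _)) (inv_mem hnG), sv_mul hnG (h1 _ _), sv_inv hnG, sv_xGL hσ r hr,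
    sv_xGL hσ _ hlt, hn', e2] at e3
  have hne : t' ≠ 0 := by
    intro h0
    rw [h0] at e1
    have hz : xGL chevG2 K (phiG2 (thetaG2 n) r) (0 : K) = 1 := by
      apply Units.ext
      rw [xGL_val _ _ (triOK_of_mem chevG2 hG2), x_zero, Units.val_one]
    rw [hz] at e1
    have e6 : xGL chevG2 K r (1 : K) = 1 := by
      have : xGL chevG2 K r (1 : K) = (n : GL chevG2.Idx K)⁻¹ *
          ((n : GL chevG2.Idx K) * xGL chevG2 K r 1 * (n : GL chevG2.Idx K)⁻¹) * (n : GL chevG2.Idx K) := by group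
      rw [this, e1]; group
    exact xGL_ne_one r hr 1 one_ne_zero e6
  exact (Cfsg.Agent.Helper19.Twist.xGL_root_inj chevG2 _ (triOK_of_mem chevG2 hG2) rootInjOK_G2 _ _
    (rho_lt _ hlt) hlt2 _ _ (pow_ne_zero _ hne) e3.symm).symm

end Cfsg.Agent.Helper18.Ree
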