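import Cfsg.Agent.Helper18.Ree.FixedCases
import Cfsg.Agent.S1037

/-!
Structure of `²G₂ = G¹`: every element lies in `B` or in `U¹ n U¹` with `n ∈ N ∩ G¹` representing `w₀`; existence of
such an `n`.
-/

set_option autoImplicit false
set_option maxRecDepth 100000

namespace Cfsg.Agent.Helper18.Ree

open Cfsg Cfsg.Lie Cfsg.Agent.Helper18

variable {K : Type*} [Field K] {σ : ↥(chevG2.group K) ≃* ↥(chevG2.group K)}

theorem pos_fix_le_twisted [Fintype K] {m : ℕ} (hK : Fintype.card K = 3 ^ (2 * m + 1)) [CharP K 3]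
    (hσ : SigmaSpec m σ) (u : GL chevG2.Idx K) (hu : u ∈ chevG2.posUnipotent K ⊓ FixS σ) :
    u ∈ twistedG2 K (3 ^ m) := by
  obtain ⟨t, a, b, rfl⟩ := fixed_posUnipotent hK hσ u hu.1 hu.2
  exact wordU_mem_twistedG2 _ t a b

/-- the elements of `G¹` -/
theorem G1_cases [Fintype K] {m : ℕ} (hK : Fintype.card K = 3 ^ (2 * m + 1)) [CharP K 3] (hσ : SigmaSpec m σ)
    (g : GL chevG2.Idx K) (hg : g ∈ twistedG2 K (3 ^ m)) :
    g ∈ chevG2.borelSubgroup K ∨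
    ∃ u₂ ∈ chevG2.posUnipotent K ⊓ twistedG2 K (3 ^ m), ∃ n₁ : ↥(chevG2.monomialSubgroup K),
      (n₁ : GL chevG2.Idx K) ∈ twistedG2 K (3 ^ m) ∧ thetaG2 n₁ = w0G2 ∧
      ∃ u₁ ∈ chevG2.posUnipotent K ⊓ twistedG2 K (3 ^ m), g = u₂ * (n₁ : GL chevG2.Idx K) * u₁ := by
  rcases fixed_cases hK hσ g (twistedG2_le_FixS hK hσ hg) with h | ⟨u₂, hu₂, n₁, -, hθ, u₁, hu₁, e⟩
  · exact Or.inl h
  · right
    have h2 := pos_fix_le_twisted hK hσ u₂ hu₂
    have h1 := pos_fix_le_twisted hK hσ u₁ hu₁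
    refine ⟨u₂, ⟨hu₂.1, h2⟩, n₁, ?_, hθ, u₁, ⟨hu₁.1, h1⟩, e⟩
    have : (n₁ : GL chevG2.Idx K) = u₂⁻¹ * g * u₁⁻¹ := by rw [e]; group
    rw [this]
    exact mul_mem (mul_mem (inv_mem h2) hg) (inv_mem h1)

/-- a non-trivial element of `V ∩ G¹` -/
noncomputable def v0 (K : Type*) [Field K] : GL chevG2.Idx K := xGL chevG2 K 2 (-1) * xGL chevG2 K 0 (-1)

/-- a non-trivial element of `U ∩ G¹` -/
noncomputable def u0 (K : Type*) [Field K] : GL chevG2.Idx K := xGL chevG2 K 9 1 * xGL chevG2 K 11 1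

theorem v0_ne_one : v0 K ≠ 1 := by
  intro h
  unfold v0 at h
  have h1 : xGL chevG2 K 2 (-1 : K) = (xGL chevG2 K 0 (-1 : K))⁻¹ := eq_inv_of_mul_eq_one_left h
  rw [xGL_inv' chevG2 hG2] at h1
  have := Cfsg.Agent.Helper19.Twist.xGL_root_inj chevG2 _ (triOK_of_mem chevG2 hG2) rootInjOK_G2 2 0
    (by decide) (by decide) (-1 : K) _ (neg_ne_zero.mpr one_ne_zero) h1
  omega

theorem u0_ne_one : u0 K ≠ 1 := by
  intro h
  unfold u0 at h
  have h1 : xGL chevG2 K 9 (1 : K) = (xGL chevG2 K 11 (1 : K))⁻¹ := eq_inv_of_mul_eq_one_left h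
  rw [xGL_inv' chevG2 hG2] at h1
  have := Cfsg.Agent.Helper19.Twist.xGL_root_inj chevG2 _ (triOK_of_mem chevG2 hG2) rootInjOK_G2 9 11
    (by decide) (by decide) (1 : K) _ one_ne_zero h1
  omega

theorem v0_mem_neg : v0 K ∈ chevG2.negUnipotent K :=
  mul_mem (xGL_mem_negUnipotent 2 (by decide) _) (xGL_mem_negUnipotent 0 (by decide) _)

theorem u0_mem_pos : u0 K ∈ chevG2.posUnipotent K :=
  mul_mem (xGL_mem_posUnipotent 9 (by omega) _) (xGL_mem_posUnipotent 11 (by omega) _)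

theorem v0_mem_twisted [CharP K 3] (θ : ℕ) (hθ : θ ≠ 0) : v0 K ∈ twistedG2 K θ := by
  have h := wordV_mem_twistedG2 (K := K) θ 0 0 1
  have e : (((negSys (K := K)).word θ 0 0 1 : ↥(chevG2.group K)) : GL chevG2.Idx K) = v0 K := by
    unfold Sys.word negSys v0
    simp only [Subgroup.coe_mul]
    show xGL chevG2 K 4 _ * xGL chevG2 K 5 _ * xGL chevG2 K 3 _ * xGL chevG2 K 2 _ * xGL chevG2 K 1 _ *
      xGL chevG2 K 0 _ = _
    simp [hθ, xGL_zero' chevG2 hG2]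
  rw [← e]
  exact h

theorem u0_mem_twisted [CharP K 3] (θ : ℕ) (hθ : θ ≠ 0) : u0 K ∈ twistedG2 K θ := by
  have h := wordU_mem_twistedG2 (K := K) θ 0 0 1
  have e : (((posSys (K := K)).word θ 0 0 1 : ↥(chevG2.group K)) : GL chevG2.Idx K) = u0 K := by
    unfold Sys.word posSys u0
    simp only [Subgroup.coe_mul]
    show xGL chevG2 K 7 _ * xGL chevG2 K 6 _ * xGL chevG2 K 8 _ * xGL chevG2 K 9 _ * xGL chevG2 K 10 _ *
      xGL chevG2 K 11 _ = _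
    simp [hθ, xGL_zero' chevG2 hG2]
  rw [← e]
  exact h

end Cfsg.Agent.Helper18.Ree
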