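import Cfsg.Agent.Helper18.Ree.Abstract
import Cfsg.Agent.Helper18.Ree.Sigma
import Cfsg.Agent.Helper18.Core
import Cfsg.Agent.S1023
import Cfsg.Agent.S1025
import Cfsg.Agent.S1026

/-!
The two systems (positive and negative roots) of root elements of `G₂(K)`, characteristic 3, satisfying the abstract
relations of `Abstract.lean`.
-/

set_option autoImplicit false
set_option maxRecDepth 100000

namespace Cfsg.Agent.Helper18.Ree

open Cfsg Cfsg.Lie Cfsg.Agent.Helper18

variable {K : Type*} [Field K]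

theorem hG2 : chevG2 ∈ [chevG2, chevB2, chevD4, chevF4, chevE6, chevE7, chevE8] := by simp

/-- the root element as an element of the Chevalley group -/
noncomputable def XG (r : ℕ) (t : K) : ↥(chevG2.group K) := ⟨xGL chevG2 K r t, xGL_mem_group' chevG2 hG2 r t⟩

theorem XG_val (r : ℕ) (t : K) :
    (((XG r t : ↥(chevG2.group K)) : GL chevG2.Idx K) : Matrix chevG2.Idx chevG2.Idx K) = chevG2.x K r t :=
  xGL_val chevG2 _ (triOK_of_mem chevG2 hG2) r t

theorem xGL_add (r : ℕ) (hr : r < 12) (t u : K) :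
    xGL chevG2 K r t * xGL chevG2 K r u = xGL chevG2 K r (t + u) := by
  have htri := triOK_of_mem chevG2 hG2
  apply Units.ext
  rw [Units.val_mul, xGL_val _ _ htri, xGL_val _ _ htri, xGL_val _ _ htri]
  exact Cfsg.Agent.S1023.result chevG2 hG2 r hr t u

theorem XG_add (r : ℕ) (hr : r < 12) (t u : K) : XG r t * XG r u = XG r (t + u) :=
  Subtype.ext (xGL_add r hr t u)

theorem xGL_comm_formula (r s : ℕ) (hr : r < 12) (hs : s < 12) (h1 : s ≠ r) (h2 : s ≠ chevG2.neg r) (t u : K) :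
    xGL chevG2 K s u * xGL chevG2 K r t =
      xGL chevG2 K r t * xGL chevG2 K s u * wordGL chevG2 K (chevG2.commWord K r s t u) := by
  have htri := triOK_of_mem chevG2 hG2
  apply Units.ext
  simp only [Units.val_mul, xGL_val _ _ htri, wordGL_val _ _ htri]
  exact Cfsg.Agent.S1025.result chevG2 hG2 r s hr hs h1 h2 t u

theorem commute_of_nil (r s : ℕ) (hr : r < 12) (hs : s < 12) (h1 : s ≠ r) (h2 : s ≠ chevG2.neg r)
    (h : chevG2.commTerms r s = []) (t u : K) : Commute (xGL chevG2 K r t) (xGL chevG2 K s u) := by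
  have := xGL_comm_formula r s hr hs h1 h2 t u
  unfold ChevalleyDatum.commWord at this
  rw [h] at this
  simp only [List.map_nil, wordGL, List.prod_nil, mul_one] at this
  exact this.symm

theorem commute_of_three [CharP K 3] (r s k : ℕ) (c : ℤ) (hc : (3 : ℤ) ∣ c) (hr : r < 12) (hs : s < 12) (h1 : s ≠ r)
    (h2 : s ≠ chevG2.neg r)
    (h : chevG2.commTerms r s = [(k, c, 1, 1)]) (t u : K) : Commute (xGL chevG2 K r t) (xGL chevG2 K s u) := by
  have := xGL_comm_formula r s hr hs h1 h2 t u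
  unfold ChevalleyDatum.commWord at this
  rw [h] at this
  have h0 : ((c : ℤ) : K) = 0 := by
    obtain ⟨d, rfl⟩ := hc
    have h3 : ((3 : ℤ) : K) = 0 := by
      have := CharP.cast_eq_zero K 3
      exact_mod_cast this
    rw [Int.cast_mul, h3, zero_mul]
  simp only [List.map_cons, List.map_nil, wordGL, List.prod_cons, List.prod_nil, mul_one, h0, zero_mul] at this
  have htri := triOK_of_mem chevG2 hG2
  have hz : xGL chevG2 K k (0 : K) = 1 := by
    apply Units.ext
    rw [xGL_val _ _ htri, x_zero, Units.val_one]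
  rw [hz, mul_one] at this
  exact this.symm

theorem commTerms_7_6 : chevG2.commTerms 7 6 = [(8, -1, 1, 1), (9, 1, 2, 1), (10, 1, 3, 1), (11, 1, 3, 2)] := by
  decide +kernel

theorem commTerms_4_5 : chevG2.commTerms 4 5 = [(3, 1, 1, 1), (2, 1, 2, 1), (1, -1, 3, 1), (0, 1, 3, 2)] := by
  decide +kernel

theorem comm_ab_pos (r s : K) : xGL chevG2 K 6 s * xGL chevG2 K 7 r = xGL chevG2 K 7 r * xGL chevG2 K 6 s *
    (xGL chevG2 K 8 (r * s) * xGL chevG2 K 9 (r ^ 2 * s) * xGL chevG2 K 10 (-(r ^ 3 * s)) *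
      xGL chevG2 K 11 (-(r ^ 3 * s ^ 2))) := by
  have := xGL_comm_formula 7 6 (by decide) (by decide) (by decide) (by decide) r s
  unfold ChevalleyDatum.commWord at this
  rw [commTerms_7_6] at this
  simp only [List.map_cons, List.map_nil, wordGL, List.prod_cons, List.prod_nil, mul_one] at this
  have e1 : ((-1 : ℤ) : K) * (-r) ^ 1 * s ^ 1 = r * s := by push_cast; ring
  have e2 : ((1 : ℤ) : K) * (-r) ^ 2 * s ^ 1 = r ^ 2 * s := by push_cast; ring
  have e3 : ((1 : ℤ) : K) * (-r) ^ 3 * s ^ 1 = -(r ^ 3 * s) := by push_cast; ring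
  have e4 : ((1 : ℤ) : K) * (-r) ^ 3 * s ^ 2 = -(r ^ 3 * s ^ 2) := by push_cast; ring
  rw [e1, e2, e3, e4] at this
  rw [this]
  simp only [mul_assoc]

theorem comm_ab_neg (r s : K) : xGL chevG2 K 5 (-s) * xGL chevG2 K 4 (-r) =
    xGL chevG2 K 4 (-r) * xGL chevG2 K 5 (-s) *
    (xGL chevG2 K 3 (-(r * s)) * xGL chevG2 K 2 (-(r ^ 2 * s)) * xGL chevG2 K 1 (-(-(r ^ 3 * s))) *
      xGL chevG2 K 0 (-(-(r ^ 3 * s ^ 2)))) := by
  have := xGL_comm_formula 4 5 (by decide) (by decide) (by decide) (by decide) (-r) (-s)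
  unfold ChevalleyDatum.commWord at this
  rw [commTerms_4_5] at this
  simp only [List.map_cons, List.map_nil, wordGL, List.prod_cons, List.prod_nil, mul_one] at this
  have e1 : ((1 : ℤ) : K) * (- -r) ^ 1 * (-s) ^ 1 = -(r * s) := by push_cast; ring
  have e2 : ((1 : ℤ) : K) * (- -r) ^ 2 * (-s) ^ 1 = -(r ^ 2 * s) := by push_cast; ring
  have e3 : ((-1 : ℤ) : K) * (- -r) ^ 3 * (-s) ^ 1 = -(-(r ^ 3 * s)) := by push_cast; ring
  have e4 : ((1 : ℤ) : K) * (- -r) ^ 3 * (-s) ^ 2 = -(-(r ^ 3 * s ^ 2)) := by push_cast; ring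
  rw [e1, e2, e3, e4] at this
  rw [this]
  simp only [mul_assoc]

end Cfsg.Agent.Helper18.Ree
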