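import Cfsg.Agent.Helper18.Ree.Inst

/-!
The positive and negative systems of `G₂(K)`, the twist on them, the field facts, and uniqueness of the normal form.
-/

set_option autoImplicit false
set_option maxRecDepth 100000

namespace Cfsg.Agent.Helper18.Ree

open Cfsg Cfsg.Lie Cfsg.Agent.Helper18

variable {K : Type*} [Field K]

theorem commute_XG {r s : ℕ} {t u : K} (h : Commute (xGL chevG2 K r t) (xGL chevG2 K s u)) :
    Commute (XG r t) (XG s u) := Subtype.ext h.eq

theorem ct_8_9 : chevG2.commTerms 8 9 = [(11, 3, 1, 1)] := by decide +kernel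
theorem ct_8_10 : chevG2.commTerms 8 10 = [] := by decide +kernel
theorem ct_8_11 : chevG2.commTerms 8 11 = [] := by decide +kernel
theorem ct_9_10 : chevG2.commTerms 9 10 = [] := by decide +kernel
theorem ct_9_11 : chevG2.commTerms 9 11 = [] := by decide +kernel
theorem ct_10_11 : chevG2.commTerms 10 11 = [] := by decide +kernel
theorem ct_3_2 : chevG2.commTerms 3 2 = [(0, -3, 1, 1)] := by decide +kernel
theorem ct_3_1 : chevG2.commTerms 3 1 = [] := by decide +kernel
theorem ct_3_0 : chevG2.commTerms 3 0 = [] := by decide +kernel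
theorem ct_2_1 : chevG2.commTerms 2 1 = [] := by decide +kernel
theorem ct_2_0 : chevG2.commTerms 2 0 = [] := by decide +kernel
theorem ct_1_0 : chevG2.commTerms 1 0 = [] := by decide +kernel

variable [CharP K 3]

/-- the positive system -/
noncomputable def posSys : Sys K ↥(chevG2.group K) where
  Xa := XG 7
  Xb := XG 6
  Xab := XG 8
  Xaab := XG 9
  Xaaab := XG 10
  Xaaabb := XG 11
  add_ab := XG_add 8 (by decide)
  add_aab := XG_add 9 (by decide)
  add_aaab := XG_add 10 (by decide)
  add_aaabb := XG_add 11 (by decide)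
  c12 := fun t u => commute_XG (commute_of_three 8 9 11 3 ⟨1, rfl⟩ (by decide) (by decide) (by decide) (by decide)
    ct_8_9 t u)
  c13 := fun t u => commute_XG (commute_of_nil 8 10 (by decide) (by decide) (by decide) (by decide) ct_8_10 t u)
  c14 := fun t u => commute_XG (commute_of_nil 8 11 (by decide) (by decide) (by decide) (by decide) ct_8_11 t u)
  c23 := fun t u => commute_XG (commute_of_nil 9 10 (by decide) (by decide) (by decide) (by decide) ct_9_10 t u)
  c24 := fun t u => commute_XG (commute_of_nil 9 11 (by decide) (by decide) (by decide) (by decide) ct_9_11 t u)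
  c34 := fun t u => commute_XG (commute_of_nil 10 11 (by decide) (by decide) (by decide) (by decide) ct_10_11 t u)
  comm_ab := fun r s => Subtype.ext (comm_ab_pos r s)

/-- the negative system -/
noncomputable def negSys : Sys K ↥(chevG2.group K) where
  Xa := fun t => XG 4 (-t)
  Xb := fun t => XG 5 (-t)
  Xab := fun t => XG 3 (-t)
  Xaab := fun t => XG 2 (-t)
  Xaaab := fun t => XG 1 (-t)
  Xaaabb := fun t => XG 0 (-t)
  add_ab := fun t u => by rw [XG_add 3 (by decide), neg_add]
  add_aab := fun t u => by rw [XG_add 2 (by decide), neg_add]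
  add_aaab := fun t u => by rw [XG_add 1 (by decide), neg_add]
  add_aaabb := fun t u => by rw [XG_add 0 (by decide), neg_add]
  c12 := fun t u => commute_XG (commute_of_three 3 2 0 (-3) ⟨-1, rfl⟩ (by decide) (by decide) (by decide) (by decide)
    ct_3_2 _ _)
  c13 := fun t u => commute_XG (commute_of_nil 3 1 (by decide) (by decide) (by decide) (by decide) ct_3_1 _ _)
  c14 := fun t u => commute_XG (commute_of_nil 3 0 (by decide) (by decide) (by decide) (by decide) ct_3_0 _ _)
  c23 := fun t u => commute_XG (commute_of_nil 2 1 (by decide) (by decide) (by decide) (by decide) ct_2_1 _ _)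
  c24 := fun t u => commute_XG (commute_of_nil 2 0 (by decide) (by decide) (by decide) (by decide) ct_2_0 _ _)
  c34 := fun t u => commute_XG (commute_of_nil 1 0 (by decide) (by decide) (by decide) (by decide) ct_1_0 _ _)
  comm_ab := fun r s => Subtype.ext (comm_ab_neg r s)

omit [CharP K 3] in
/-- the specification of the twist -/
def SigmaSpec (m : ℕ) (σ : ↥(chevG2.group K) ≃* ↥(chevG2.group K)) : Prop :=
  ∀ (g : ↥(chevG2.group K)) (r : ℕ) (t : K), r < 12 →
      ((g : GL chevG2.Idx K) : Matrix chevG2.Idx chevG2.Idx K) = chevG2.x K r t →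
      ((σ g : GL chevG2.Idx K) : Matrix chevG2.Idx chevG2.Idx K) = chevG2.x K (rho r) (t ^ sexp m r)

omit [CharP K 3] in
theorem SigmaSpec.map_XG {m : ℕ} {σ : ↥(chevG2.group K) ≃* ↥(chevG2.group K)} (h : SigmaSpec m σ) (r : ℕ)
    (hr : r < 12) (t : K) : σ (XG r t) = XG (rho r) (t ^ sexp m r) := by
  apply Subtype.ext
  apply Units.ext
  rw [h (XG r t) r t hr (XG_val r t), XG_val]

omit [CharP K 3] in
theorem sexp_short (m r : ℕ) (h : GraphAut.gdG2.shortR.getD r false = true) : sexp m r = 3 * 3 ^ m := by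
  unfold sexp GraphAut.GData.lam
  rw [if_pos h, mul_comm]
  rfl

omit [CharP K 3] in
theorem sexp_long (m r : ℕ) (h : GraphAut.gdG2.shortR.getD r false = false) : sexp m r = 3 ^ m := by
  unfold sexp GraphAut.GData.lam
  rw [h]
  simp

theorem posSys_twist {m : ℕ} {σ : ↥(chevG2.group K) ≃* ↥(chevG2.group K)} (h : SigmaSpec m σ) :
    (posSys (K := K)).Twist σ.toMonoidHom (3 ^ m) where
  sa := fun t => by
    show σ (XG 7 t) = XG 6 _
    rw [h.map_XG 7 (by decide), sexp_short m 7 rfl]; rfl
  sb := fun t => by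
    show σ (XG 6 t) = XG 7 _
    rw [h.map_XG 6 (by decide), sexp_long m 6 rfl]; rfl
  sab := fun t => by
    show σ (XG 8 t) = XG 10 _
    rw [h.map_XG 8 (by decide), sexp_short m 8 rfl]; rfl
  saaab := fun t => by
    show σ (XG 10 t) = XG 8 _
    rw [h.map_XG 10 (by decide), sexp_long m 10 rfl]; rfl
  saab := fun t => by
    show σ (XG 9 t) = XG 11 _
    rw [h.map_XG 9 (by decide), sexp_short m 9 rfl]; rfl
  saaabb := fun t => by
    show σ (XG 11 t) = XG 9 _
    rw [h.map_XG 11 (by decide), sexp_long m 11 rfl]; rfl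

omit [CharP K 3] in
theorem odd_three_pow (m : ℕ) : Odd (3 ^ m) := Odd.pow (by decide)

omit [CharP K 3] in
theorem odd_three_mul (m : ℕ) : Odd (3 * 3 ^ m) := Odd.mul (by decide) (odd_three_pow m)

theorem negSys_twist {m : ℕ} {σ : ↥(chevG2.group K) ≃* ↥(chevG2.group K)} (h : SigmaSpec m σ) :
    (negSys (K := K)).Twist σ.toMonoidHom (3 ^ m) where
  sa := fun t => by
    show σ (XG 4 (-t)) = XG 5 (-_)
    rw [h.map_XG 4 (by decide), sexp_short m 4 rfl, (odd_three_mul m).neg_pow]; rfl
  sb := fun t => by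
    show σ (XG 5 (-t)) = XG 4 (-_)
    rw [h.map_XG 5 (by decide), sexp_long m 5 rfl, (odd_three_pow m).neg_pow]; rfl
  sab := fun t => by
    show σ (XG 3 (-t)) = XG 1 (-_)
    rw [h.map_XG 3 (by decide), sexp_short m 3 rfl, (odd_three_mul m).neg_pow]; rfl
  saaab := fun t => by
    show σ (XG 1 (-t)) = XG 3 (-_)
    rw [h.map_XG 1 (by decide), sexp_long m 1 rfl, (odd_three_pow m).neg_pow]; rfl
  saab := fun t => by
    show σ (XG 2 (-t)) = XG 0 (-_)
    rw [h.map_XG 2 (by decide), sexp_short m 2 rfl, (odd_three_mul m).neg_pow]; rfl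
  saaabb := fun t => by
    show σ (XG 0 (-t)) = XG 2 (-_)
    rw [h.map_XG 0 (by decide), sexp_long m 0 rfl, (odd_three_pow m).neg_pow]; rfl

/-- the field facts -/
theorem fieldHyp [Fintype K] {m : ℕ} (hK : Fintype.card K = 3 ^ (2 * m + 1)) : Sys.FieldHyp K (3 ^ m) where
  hq := fun x => by
    rw [← pow_mul]
    have : 3 ^ m * (3 * 3 ^ m) = 3 ^ (2 * m + 1) := by ring
    rw [this]
    exact pow_card_eq hK x
  hadd3 := fun x y => by
    have : Fact (Nat.Prime 3) := ⟨Nat.prime_three⟩
    have : 3 * 3 ^ m = 3 ^ (m + 1) := by ring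
    rw [this]
    exact add_pow_char_pow x y 3 (m + 1)
  hadd := fun x y => by
    have : Fact (Nat.Prime 3) := ⟨Nat.prime_three⟩
    exact add_pow_char_pow x y 3 m
  hneg := fun x => (odd_three_pow m).neg_pow x

end Cfsg.Agent.Helper18.Ree
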