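import Cfsg.Agent.Helper18.Ree.SL2Ree
import Cfsg.Agent.Helper18.WordEq

/-!
The involution `h_{a+b}(-1)` of `H` lies in `²G₂`.
-/

set_option autoImplicit false
set_option maxRecDepth 100000

namespace Cfsg.Agent.Helper18.Ree

open Cfsg Cfsg.Lie Cfsg.Agent.Helper18

/-- a product of six Ree words with parameters in the prime field -/
def jW1 : List (ℕ × Poly) :=
  [(7, pconst (-1)), (6, pconst (-1)), (8, pconst 0), (9, pconst 0), (10, pconst (-1)), (11, pconst 1),
   (4, pconst (-1)), (5, pconst (-1)), (3, pconst (-1)), (2, pconst (-1)), (1, pconst 0), (0, pconst 0),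
   (7, pconst 1), (6, pconst 1), (8, pconst 2), (9, pconst 2), (10, pconst 1), (11, pconst 1),
   (7, pconst 0), (6, pconst 0), (8, pconst 1), (9, pconst 0), (10, pconst 1), (11, pconst 0),
   (4, pconst 0), (5, pconst 0), (3, pconst (-1)), (2, pconst 0), (1, pconst (-1)), (0, pconst 0),
   (7, pconst 0), (6, pconst 0), (8, pconst 1), (9, pconst 0), (10, pconst 1), (11, pconst 0)]

/-- the word of `h_{a+b}(-1)` -/
def jW2 : List (ℕ × Poly) :=
  [(8, pconst (-1)), (3, pconst 1), (8, pconst (-1)), (8, pconst (-1)), (3, pconst 1), (8, pconst (-1))]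

theorem jW_OK : wordEqOK chevG2 3 jW1 jW2 = true := by decide +kernel

variable {K : Type*} [Field K] [CharP K 3]

/-- the involution -/
noncomputable def jGL (K : Type*) [Field K] : GL chevG2.Idx K := wordGL chevG2 K (chevG2.hWord 8 (-1 : K))

theorem jGL_mem_diag : jGL K ∈ chevG2.diagonalSubgroup K :=
  hWordGL_mem_diagonalSubgroup chevG2 hG2 8 (by decide) _ (neg_ne_zero.mpr one_ne_zero)

theorem jGL_eq (m : ℕ) : jGL K = wU (3 ^ m) (-1) (-1) 1 * wV (3 ^ m) 1 0 0 * wU (3 ^ m) 1 1 1 *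
    wU (3 ^ m) 0 1 0 * wV (3 ^ m) 0 1 0 * wU (3 ^ m) 0 1 0 := by
  have hθ : (3 : ℕ) ^ m ≠ 0 := pow_ne_zero _ (by norm_num)
  have o1 : (-1 : K) ^ 3 ^ m = -1 := (odd_three_pow m).neg_one_pow
  have o2 : (-1 : K) ^ (3 ^ m + 1) = 1 := by rw [pow_succ, o1]; ring
  have o3 : (-1 : K) ^ (2 * 3 ^ m + 1) = -1 := by rw [pow_succ, pow_mul]; norm_num
  have key := wordMat_eq_of_wordEqOK (F := K) 3 chevG2 jW1 jW2 jW_OK 1 1 1
  have e2 : (jW2.map fun e => (e.1, peval (1 : K) 1 1 e.2)) = chevG2.hWord 8 (-1 : K) := by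
    simp only [jW2, List.map_cons, List.map_nil, peval_pconst, ChevalleyDatum.hWord, ChevalleyDatum.nWord,
      List.cons_append, List.nil_append]
    have : chevG2.neg 8 = 3 := rfl
    rw [this]
    norm_num
  rw [e2] at key
  apply Units.ext
  unfold jGL
  rw [wordGL_val chevG2 _ (triOK_of_mem chevG2 hG2), ← key, ← wordGL_val chevG2 _ (triOK_of_mem chevG2 hG2)]
  congr 1
  rw [wU_eq, wU_eq, wU_eq, wV_eq, wV_eq, o1, o2, o3]
  simp only [jW1, wordGL, List.map_cons, List.map_nil, List.prod_cons, List.prod_nil, peval_pconst, one_pow,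
    zero_pow hθ, zero_pow (Nat.succ_ne_zero _), mul_one, mul_assoc]
  norm_num

theorem jGL_mem_twisted (m : ℕ) : jGL K ∈ twistedG2 K (3 ^ m) := by
  rw [jGL_eq m]
  have hu := fun t u v => wordU_mem_twistedG2 (K := K) (3 ^ m) t u v
  have hv := fun t u v => wordV_mem_twistedG2 (K := K) (3 ^ m) t u v
  exact mul_mem (mul_mem (mul_mem (mul_mem (mul_mem (hu _ _ _) (hv _ _ _)) (hu _ _ _)) (hu _ _ _)) (hv _ _ _))
    (hu _ _ _)

end Cfsg.Agent.Helper18.Ree
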