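import Cfsg.Agent.Helper18.Ree.BNPairRee

/-!
`N¹ / H¹` has order 2 for `²G₂`.
-/

set_option autoImplicit false
set_option maxRecDepth 100000

namespace Cfsg.Agent.Helper18.Ree

open Cfsg Cfsg.Lie Cfsg.Agent.Helper18

variable {K : Type*} [Field K]

theorem w0G2_ne_one : w0G2 ≠ 1 := by
  intro h
  have h1 := phiG2_w0 0 (by decide)
  rw [h, map_one, Equiv.Perm.one_apply] at h1
  omega

theorem weyl_quot [Fintype K] {m : ℕ} (hK : Fintype.card K = 3 ^ (2 * m + 1)) :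
    ∃ φ : ↥(chevG2.monomialSubgroup K ⊓ twistedG2 K (3 ^ m)) →* Multiplicative (ZMod 2), Function.Surjective φ ∧
      φ.ker = (chevG2.diagonalSubgroup K ⊓ twistedG2 K (3 ^ m)).subgroupOf
        (chevG2.monomialSubgroup K ⊓ twistedG2 K (3 ^ m)) := by
  haveI := charP_three hK
  obtain ⟨σ, hσ'⟩ := exists_sigma hK
  have hσ : SigmaSpec m σ := hσ'
  obtain ⟨n₀, hn₀G, hθ₀⟩ := exists_n0 hK hσ
  classical
  -- the Weyl group element of an element of `N¹`
  let τ : ↥(chevG2.monomialSubgroup K ⊓ twistedG2 K (3 ^ m)) → WG2 := fun x =>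
    thetaG2 (⟨(x : GL chevG2.Idx K), x.2.1⟩ : ↥(chevG2.monomialSubgroup K))
  have hτmul : ∀ x y, τ (x * y) = τ x * τ y := fun x y => theta_mul' _ _ x.2.1 y.2.1
  have hτ : ∀ x, τ x = 1 ∨ τ x = w0G2 := fun x => theta_of_mem hK hσ _ x.2.2
  let f : ↥(chevG2.monomialSubgroup K ⊓ twistedG2 K (3 ^ m)) → Multiplicative (ZMod 2) := fun x =>
    if τ x = 1 then Multiplicative.ofAdd (0 : ZMod 2) else Multiplicative.ofAdd (1 : ZMod 2)
  have hf1 : ∀ x, τ x = 1 → f x = Multiplicative.ofAdd (0 : ZMod 2) := fun x h => if_pos h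
  have hf2 : ∀ x, τ x = w0G2 → f x = Multiplicative.ofAdd (1 : ZMod 2) := fun x h =>
    if_neg (by rw [h]; exact w0G2_ne_one)
  have hfmul : ∀ x y, f (x * y) = f x * f y := by
    intro x y
    rcases hτ x with hx | hx <;> rcases hτ y with hy | hy
    · rw [hf1 x hx, hf1 y hy, hf1 (x * y) (by rw [hτmul, hx, hy, one_mul])]
      rfl
    · rw [hf1 x hx, hf2 y hy, hf2 (x * y) (by rw [hτmul, hx, hy, one_mul])]
      rfl
    · rw [hf2 x hx, hf1 y hy, hf2 (x * y) (by rw [hτmul, hx, hy, mul_one])]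
      rfl
    · rw [hf2 x hx, hf2 y hy, hf1 (x * y) (by rw [hτmul, hx, hy, w0G2_mul_self])]
      rfl
  refine ⟨MonoidHom.mk' f hfmul, ?_, ?_⟩
  · intro z
    have hz : z = Multiplicative.ofAdd (0 : ZMod 2) ∨ z = Multiplicative.ofAdd (1 : ZMod 2) := by
      revert z
      decide
    rcases hz with rfl | rfl
    · exact ⟨1, hf1 1 (map_one thetaG2)⟩
    · exact ⟨⟨(n₀ : GL chevG2.Idx K), n₀.2, hn₀G⟩, hf2 _ hθ₀⟩
  · ext x
    rw [MonoidHom.mem_ker, Subgroup.mem_subgroupOf, Subgroup.mem_inf]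
    show f x = 1 ↔ _
    constructor
    · intro h
      rcases hτ x with hx | hx
      · exact ⟨mem_diag_of_theta _ x.2.1 hx, x.2.2⟩
      · rw [hf2 x hx] at h
        exact absurd h (by decide)
    · rintro ⟨h, -⟩
      have : τ x = 1 := (thetaG2_eq_one_iff _).mpr h
      rw [hf1 x this]
      rfl

end Cfsg.Agent.Helper18.Ree
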