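import Cfsg.Agent.Helper18.Ree.UFix

/-!
The generating words of `²G₂` as elements of the two systems; `²G₂` is fixed by the twist; `U ∩ ²G₂`.
-/

set_option autoImplicit false
set_option maxRecDepth 100000

namespace Cfsg.Agent.Helper18.Ree

open Cfsg Cfsg.Lie Cfsg.Agent.Helper18

variable {K : Type*} [Field K] [CharP K 3]

theorem wordU_val (θ : ℕ) (t u v : K) :
    ((((posSys (K := K)).word θ t u v : ↥(chevG2.group K)) : GL chevG2.Idx K) : Matrix chevG2.Idx chevG2.Idx K) =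
      chevG2.wordMat K (reeWordU θ t u v) := by
  rw [← wordGL_val chevG2 _ (triOK_of_mem chevG2 hG2)]
  congr 1
  simp only [reeWordU, wordGL, List.map_cons, List.map_nil, List.prod_cons, List.prod_nil, mul_one]
  simp only [← mul_assoc]
  rfl

theorem wordV_val (θ : ℕ) (t u v : K) :
    ((((negSys (K := K)).word θ t u v : ↥(chevG2.group K)) : GL chevG2.Idx K) : Matrix chevG2.Idx chevG2.Idx K) =
      chevG2.wordMat K (reeWordV θ t u v) := by
  rw [← wordGL_val chevG2 _ (triOK_of_mem chevG2 hG2)]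
  congr 1
  simp only [reeWordV, reeWordU, ChevalleyDatum.negWord, wordGL, List.map_cons, List.map_nil, List.prod_cons,
    List.prod_nil, mul_one]
  simp only [← mul_assoc]
  rfl

/-- the fixed points of `σ`, as a subgroup of the general linear group -/
def FixS (σ : ↥(chevG2.group K) ≃* ↥(chevG2.group K)) : Subgroup (GL chevG2.Idx K) :=
  (σ.toMonoidHom.eqLocus (MonoidHom.id _)).map (chevG2.group K).subtype

omit [CharP K 3] in
theorem mem_FixS {σ : ↥(chevG2.group K) ≃* ↥(chevG2.group K)} {g : GL chevG2.Idx K} :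
    g ∈ FixS σ ↔ ∃ h : g ∈ chevG2.group K, σ ⟨g, h⟩ = ⟨g, h⟩ := by
  unfold FixS
  rw [Subgroup.mem_map]
  constructor
  · rintro ⟨x, hx, rfl⟩
    exact ⟨x.2, hx⟩
  · rintro ⟨h, hg⟩
    exact ⟨⟨g, h⟩, hg, rfl⟩

theorem twistedG2_le_FixS [Fintype K] {m : ℕ} (hK : Fintype.card K = 3 ^ (2 * m + 1))
    {σ : ↥(chevG2.group K) ≃* ↥(chevG2.group K)} (hσ : SigmaSpec m σ) : twistedG2 K (3 ^ m) ≤ FixS σ := by
  unfold twistedG2 ChevalleyDatum.genSubgroup
  rw [Subgroup.closure_le]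
  rintro g ⟨w, hw, hg⟩
  obtain ⟨t, u, v, rfl | rfl⟩ := hw
  · have e : g = (((posSys (K := K)).word (3 ^ m) t u v : ↥(chevG2.group K)) : GL chevG2.Idx K) :=
      Units.ext (by rw [hg, wordU_val])
    rw [e]
    exact mem_FixS.mpr ⟨Subtype.property _, (posSys_twist hσ).word_fixed (fieldHyp hK) t u v⟩
  · have e : g = (((negSys (K := K)).word (3 ^ m) t u v : ↥(chevG2.group K)) : GL chevG2.Idx K) :=
      Units.ext (by rw [hg, wordV_val])
    rw [e]
    exact mem_FixS.mpr ⟨Subtype.property _, (negSys_twist hσ).word_fixed (fieldHyp hK) t u v⟩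

theorem wordU_mem_twistedG2 (θ : ℕ) (t u v : K) :
    (((posSys (K := K)).word θ t u v : ↥(chevG2.group K)) : GL chevG2.Idx K) ∈ twistedG2 K θ := by
  apply Subgroup.subset_closure
  exact ⟨_, ⟨t, u, v, Or.inl rfl⟩, wordU_val θ t u v⟩

theorem wordV_mem_twistedG2 (θ : ℕ) (t u v : K) :
    (((negSys (K := K)).word θ t u v : ↥(chevG2.group K)) : GL chevG2.Idx K) ∈ twistedG2 K θ := by
  apply Subgroup.subset_closure
  exact ⟨_, ⟨t, u, v, Or.inr rfl⟩, wordV_val θ t u v⟩

theorem wordU_mem_posUnipotent (θ : ℕ) (t u v : K) :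
    (((posSys (K := K)).word θ t u v : ↥(chevG2.group K)) : GL chevG2.Idx K) ∈ chevG2.posUnipotent K := by
  have h := fun k hk t => xGL_mem_posUnipotent (K := K) k hk t
  exact mul_mem (mul_mem (mul_mem (mul_mem (mul_mem (h 7 (by omega) _) (h 6 (by omega) _)) (h 8 (by omega) _))
    (h 9 (by omega) _)) (h 10 (by omega) _)) (h 11 (by omega) _)

/-- a fixed point of the twist in `U` is a Ree word -/
theorem fixed_posUnipotent [Fintype K] {m : ℕ} (hK : Fintype.card K = 3 ^ (2 * m + 1))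
    {σ : ↥(chevG2.group K) ≃* ↥(chevG2.group K)} (hσ : SigmaSpec m σ) (g : GL chevG2.Idx K)
    (hg : g ∈ chevG2.posUnipotent K) (hfix : g ∈ FixS σ) :
    ∃ t u v : K, g = (((posSys (K := K)).word (3 ^ m) t u v : ↥(chevG2.group K)) : GL chevG2.Idx K) := by
  obtain ⟨s, r, c, d, e, f, rfl⟩ := exists_nfGL g hg
  obtain ⟨h, hfix⟩ := mem_FixS.mp hfix
  have e1 : (⟨nfGL s r c d e f, h⟩ : ↥(chevG2.group K)) =
      (posSys (K := K)).Xb s * (posSys (K := K)).Xa r * (posSys (K := K)).hh c d e f := Subtype.ext rfl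
  rw [e1] at hfix
  obtain ⟨t, u, v, hw⟩ := (posSys_twist hσ).fixed_eq_word (fieldHyp hK) posSys_uniq s r c d e f hfix
  exact ⟨t, u, v, by rw [← hw]; rfl⟩

end Cfsg.Agent.Helper18.Ree
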