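import Cfsg.Agent.Helper18.Ree.BNPairRee
import Cfsg.Agent.Helper18.Ree.WeylQuot
import Cfsg.Agent.S1101

/-!
The order of `²G₂(q)`, conditional on `|H¹| = q - 1`: `G¹ = B¹ ⊔ B¹ n₀ U¹` with uniqueness.
-/

set_option autoImplicit false
set_option maxRecDepth 100000

namespace Cfsg.Agent.Helper18.Ree

open Cfsg Cfsg.Lie Cfsg.Agent.Helper18

variable {K : Type*} [Field K] {σ : ↥(chevG2.group K) ≃* ↥(chevG2.group K)}

/-- uniqueness of `b = u h` -/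
theorem uh_unique {u u' h h' : GL chevG2.Idx K} (hu : u ∈ chevG2.posUnipotent K) (hu' : u' ∈ chevG2.posUnipotent K)
    (hh : h ∈ chevG2.diagonalSubgroup K) (hh' : h' ∈ chevG2.diagonalSubgroup K) (e : u * h = u' * h') :
    u = u' ∧ h = h' := by
  have h1 : u'⁻¹ * u = h' * h⁻¹ := by
    have : u = u' * h' * h⁻¹ := by rw [← e]; group
    rw [this]; group
  have h2 : u'⁻¹ * u ∈ chevG2.posUnipotent K ⊓ chevG2.diagonalSubgroup K :=
    Subgroup.mem_inf.mpr ⟨mul_mem (inv_mem hu') hu, by rw [h1]; exact mul_mem hh' (inv_mem hh)⟩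
  rw [pos_inf_diag, Subgroup.mem_bot] at h2
  have h3 : u = u' := by
    have := inv_mul_eq_one.mp h2
    exact this.symm
  refine ⟨h3, ?_⟩
  rw [h3] at e
  exact mul_left_cancel e

/-- `B¹ = U¹ H¹` -/
theorem borel_twisted_decomp [Fintype K] {m : ℕ} (hK : Fintype.card K = 3 ^ (2 * m + 1)) [CharP K 3]
    (hσ : SigmaSpec m σ) (b : GL chevG2.Idx K) (hb : b ∈ chevG2.borelSubgroup K ⊓ twistedG2 K (3 ^ m)) :
    ∃ u ∈ chevG2.posUnipotent K ⊓ twistedG2 K (3 ^ m), ∃ h ∈ chevG2.diagonalSubgroup K ⊓ twistedG2 K (3 ^ m),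
      b = u * h := by
  obtain ⟨u, hu, h, hh, rfl⟩ := borel_decomp' b hb.1
  obtain ⟨huG, hσu⟩ := sv_posUnipotent hσ u hu
  obtain ⟨hhG, hσh⟩ := sv_diagonal hσ h hh
  have hfix := (mem_FixS_iff.mp (twistedG2_le_FixS hK hσ hb.2)).2
  rw [sv_mul huG hhG] at hfix
  obtain ⟨e1, -⟩ := uh_unique hσu hu hσh hh hfix
  have hu1 : u ∈ twistedG2 K (3 ^ m) := pos_fix_le_twisted hK hσ u ⟨hu, mem_FixS_iff.mpr ⟨huG, e1⟩⟩
  have hh1 : h ∈ twistedG2 K (3 ^ m) := by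
    have : h = u⁻¹ * (u * h) := by group
    rw [this]
    exact mul_mem (inv_mem hu1) hb.2
  exact ⟨u, Subgroup.mem_inf.mpr ⟨hu, hu1⟩, h, Subgroup.mem_inf.mpr ⟨hh, hh1⟩, rfl⟩

/-- `|B¹| = |U¹| |H¹|` -/
theorem card_borel_twisted [Fintype K] {m : ℕ} (hK : Fintype.card K = 3 ^ (2 * m + 1)) :
    Nat.card ↥(chevG2.borelSubgroup K ⊓ twistedG2 K (3 ^ m)) =
      Nat.card ↥(chevG2.posUnipotent K ⊓ twistedG2 K (3 ^ m)) *
        Nat.card ↥(chevG2.diagonalSubgroup K ⊓ twistedG2 K (3 ^ m)) := by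
  have := charP_three hK
  obtain ⟨σ, hσ'⟩ := exists_sigma hK
  have hσ : SigmaSpec m σ := hσ'
  have hHB := diagonal_le_borel (F := K) chevG2 hG2
  have hUB := posUnipotent_le_borel (F := K) chevG2 hG2
  rw [← Nat.card_prod]
  symm
  let f : ↥(chevG2.posUnipotent K ⊓ twistedG2 K (3 ^ m)) × ↥(chevG2.diagonalSubgroup K ⊓ twistedG2 K (3 ^ m)) →
      ↥(chevG2.borelSubgroup K ⊓ twistedG2 K (3 ^ m)) :=
    fun p => ⟨(p.1 : GL chevG2.Idx K) * (p.2 : GL chevG2.Idx K),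
      Subgroup.mem_inf.mpr ⟨mul_mem (hUB p.1.2.1) (hHB p.2.2.1), mul_mem p.1.2.2 p.2.2.2⟩⟩
  apply Nat.card_eq_of_bijective f
  constructor
  · rintro ⟨⟨u, hu⟩, ⟨h, hh⟩⟩ ⟨⟨u', hu'⟩, ⟨h', hh'⟩⟩ e
    have e' : u * h = u' * h' := congrArg Subtype.val e
    obtain ⟨e1, e2⟩ := uh_unique hu.1 hu'.1 hh.1 hh'.1 e'
    subst e1
    subst e2
    rfl
  · rintro ⟨b, hb⟩
    obtain ⟨u, hu, h, hh, e⟩ := borel_twisted_decomp hK hσ b hb
    exact ⟨(⟨u, hu⟩, ⟨h, hh⟩), Subtype.ext e.symm⟩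

/-- the big cell: `b n₀ u` determines `b` and `u` -/
theorem bigcell_unique (n₀ : ↥(chevG2.monomialSubgroup K)) (hθ : thetaG2 n₀ = w0G2)
    {b b' u u' : GL chevG2.Idx K} (hb : b ∈ chevG2.borelSubgroup K) (hb' : b' ∈ chevG2.borelSubgroup K)
    (hu : u ∈ chevG2.posUnipotent K) (hu' : u' ∈ chevG2.posUnipotent K)
    (e : b * (n₀ : GL chevG2.Idx K) * u = b' * (n₀ : GL chevG2.Idx K) * u') : b = b' ∧ u = u' := by
  have h1 : b'⁻¹ * b = (n₀ : GL chevG2.Idx K) * (u' * u⁻¹) * (n₀ : GL chevG2.Idx K)⁻¹ := by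
    have : b = b' * (n₀ : GL chevG2.Idx K) * u' * u⁻¹ * (n₀ : GL chevG2.Idx K)⁻¹ := by rw [← e]; group
    rw [this]; group
  have h2 : b'⁻¹ * b ∈ chevG2.borelSubgroup K ⊓ chevG2.negUnipotent K :=
    Subgroup.mem_inf.mpr
      ⟨mul_mem (inv_mem hb') hb, by rw [h1]; exact theta_w0_conj n₀ hθ _ (mul_mem hu' (inv_mem hu))⟩
  rw [borel_inf_neg, Subgroup.mem_bot] at h2
  have h3 : b = b' := (inv_mul_eq_one.mp h2).symm
  refine ⟨h3, ?_⟩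
  rw [h3] at e
  exact mul_left_cancel e

/-- `n₀ ∉ B` -/
theorem n0_not_mem_borel (n₀ : ↥(chevG2.monomialSubgroup K)) (hθ : thetaG2 n₀ = w0G2) :
    (n₀ : GL chevG2.Idx K) ∉ chevG2.borelSubgroup K := by
  intro h
  have h1 : (n₀ : GL chevG2.Idx K) ∈ chevG2.borelSubgroup K ⊓ chevG2.monomialSubgroup K := ⟨h, n₀.2⟩
  rw [borel_inf_monomial] at h1
  have h2 := (thetaG2_eq_one_iff n₀).mpr h1
  rw [hθ] at h2
  exact w0G2_ne_one h2

/-- `|G¹| = |B¹| + |B¹| |U¹|` -/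
theorem card_twisted_eq [Fintype K] {m : ℕ} (hK : Fintype.card K = 3 ^ (2 * m + 1)) :
    Nat.card ↥(twistedG2 K (3 ^ m)) =
      Nat.card ↥(chevG2.borelSubgroup K ⊓ twistedG2 K (3 ^ m)) +
      Nat.card ↥(chevG2.borelSubgroup K ⊓ twistedG2 K (3 ^ m)) *
        Nat.card ↥(chevG2.posUnipotent K ⊓ twistedG2 K (3 ^ m)) := by
  have := charP_three hK
  obtain ⟨σ, hσ'⟩ := exists_sigma hK
  have hσ : SigmaSpec m σ := hσ'
  obtain ⟨n₀, hn₀G, hθ₀⟩ := exists_n0 hK hσ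
  have hHB := diagonal_le_borel (F := K) chevG2 hG2
  have hUB := posUnipotent_le_borel (F := K) chevG2 hG2
  rw [← Nat.card_prod, ← Nat.card_sum]
  symm
  let f : ↥(chevG2.borelSubgroup K ⊓ twistedG2 K (3 ^ m)) ⊕
      (↥(chevG2.borelSubgroup K ⊓ twistedG2 K (3 ^ m)) × ↥(chevG2.posUnipotent K ⊓ twistedG2 K (3 ^ m))) →
      ↥(twistedG2 K (3 ^ m)) :=
    fun p => match p with
      | Sum.inl b => ⟨(b : GL chevG2.Idx K), b.2.2⟩
      | Sum.inr q => ⟨(q.1 : GL chevG2.Idx K) * (n₀ : GL chevG2.Idx K) * (q.2 : GL chevG2.Idx K),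
          mul_mem (mul_mem q.1.2.2 hn₀G) q.2.2.2⟩
  apply Nat.card_eq_of_bijective f
  constructor
  · rintro (⟨b, hb⟩ | ⟨⟨b, hb⟩, ⟨u, hu⟩⟩) (⟨b', hb'⟩ | ⟨⟨b', hb'⟩, ⟨u', hu'⟩⟩) e
    · have e' : b = b' := congrArg Subtype.val e
      subst e'
      rfl
    · exfalso
      have e' : b = b' * (n₀ : GL chevG2.Idx K) * u' := congrArg Subtype.val e
      apply n0_not_mem_borel n₀ hθ₀
      have : (n₀ : GL chevG2.Idx K) = b'⁻¹ * b * u'⁻¹ := by rw [e']; group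
      rw [this]
      exact mul_mem (mul_mem (inv_mem hb'.1) hb.1) (inv_mem (hUB hu'.1))
    · exfalso
      have e' : b * (n₀ : GL chevG2.Idx K) * u = b' := congrArg Subtype.val e
      apply n0_not_mem_borel n₀ hθ₀
      have : (n₀ : GL chevG2.Idx K) = b⁻¹ * b' * u⁻¹ := by rw [← e']; group
      rw [this]
      exact mul_mem (mul_mem (inv_mem hb.1) hb'.1) (inv_mem (hUB hu.1))
    · have e' : b * (n₀ : GL chevG2.Idx K) * u = b' * (n₀ : GL chevG2.Idx K) * u' := congrArg Subtype.val e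
      obtain ⟨e1, e2⟩ := bigcell_unique n₀ hθ₀ hb.1 hb'.1 hu.1 hu'.1 e'
      subst e1
      subst e2
      rfl
  · rintro ⟨g, hg⟩
    rcases G1_cases hK hσ g hg with h | ⟨u₂, hu₂, n₁, hn₁, hθ₁, u₁, hu₁, e⟩
    · exact ⟨Sum.inl ⟨g, Subgroup.mem_inf.mpr ⟨h, hg⟩⟩, rfl⟩
    · have hy : (n₁ : GL chevG2.Idx K) * (n₀ : GL chevG2.Idx K)⁻¹ ∈ chevG2.diagonalSubgroup K := by
        apply mem_diag_of_theta _ (mul_mem n₁.2 (inv_mem n₀.2))
        rw [theta_mul' _ _ n₁.2 (inv_mem n₀.2), theta_inv' _ n₀.2]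
        show thetaG2 n₁ * (thetaG2 n₀)⁻¹ = 1
        rw [hθ₁, hθ₀, mul_inv_cancel]
      refine ⟨Sum.inr (⟨u₂ * ((n₁ : GL chevG2.Idx K) * (n₀ : GL chevG2.Idx K)⁻¹),
        Subgroup.mem_inf.mpr ⟨mul_mem (hUB hu₂.1) (hHB hy), mul_mem hu₂.2 (mul_mem hn₁ (inv_mem hn₀G))⟩⟩,
          ⟨u₁, hu₁⟩), ?_⟩
      apply Subtype.ext
      show u₂ * ((n₁ : GL chevG2.Idx K) * (n₀ : GL chevG2.Idx K)⁻¹) * (n₀ : GL chevG2.Idx K) * u₁ = g
      rw [e]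
      group

/-- the order of `²G₂(q)` from the order of its torus -/
theorem card_ree_of_torus [Fintype K] {m : ℕ} (hK : Fintype.card K = 3 ^ (2 * m + 1))
    (hH : Nat.card ↥(chevG2.diagonalSubgroup K ⊓ twistedG2 K (3 ^ m)) = 3 ^ (2 * m + 1) - 1) :
    Nat.card ↥(twistedG2 K (3 ^ m)) =
      (3 ^ (2 * m + 1)) ^ 3 * (3 ^ (2 * m + 1) - 1) * ((3 ^ (2 * m + 1)) ^ 3 + 1) := by
  rw [card_twisted_eq hK, card_borel_twisted hK, hH, (Cfsg.Agent.S1101.result hK).2]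
  ring

end Cfsg.Agent.Helper18.Ree
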