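import Cfsg.Agent.Helper18.Ree.TorusAct

/-!
`²G₂(3^(2m+1))` is perfect for `m ≥ 1`, given the order of its torus.
-/

set_option autoImplicit false
set_option maxRecDepth 100000

namespace Cfsg.Agent.Helper18.Ree

open Cfsg Cfsg.Lie Cfsg.Agent.Helper18

/-- the abstract argument: a three-parameter family normalised by `k` with non-trivial weights lies in any normal
subgroup containing the commutators with `k` -/
theorem family_mem_of_comm {K : Type*} [Field K] {G : Type*} [Group G] (D : Subgroup G)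
    (g : K → K → K → G) (k : G) (μ c₁ c₂ : K) (hμ : μ ≠ 1) (hc₁ : c₁ ≠ 1) (hc₂ : c₂ ≠ 1)
    (hD : ∀ x, k * x * k⁻¹ * x⁻¹ ∈ D)
    (R1 : ∀ t u v, k * g t u v * k⁻¹ = g (μ * t) (c₁ * u) (c₂ * v))
    (R2 : ∀ t u v, g t u v = g t 0 0 * g 0 u v)
    (R3 : ∀ u v u' v', g 0 u v * g 0 u' v' = g 0 (u + u') (v + v'))
    (R4 : ∀ s t, ∃ u v, g s 0 0 * (g t 0 0)⁻¹ = g (s - t) u v) (t u v : K) : g t u v ∈ D := by
  have h000 : g 0 0 0 = 1 := by
    have := R3 0 0 0 0
    rw [add_zero] at this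
    exact mul_eq_left.mp this
  have hinv : ∀ u v, (g 0 u v)⁻¹ = g 0 (-u) (-v) := by
    intro u v
    apply inv_eq_of_mul_eq_one_right
    rw [R3, add_neg_cancel, add_neg_cancel, h000]
  have hμ' : μ - 1 ≠ 0 := sub_ne_zero.mpr hμ
  have hc₁' : c₁ - 1 ≠ 0 := sub_ne_zero.mpr hc₁
  have hc₂' : c₂ - 1 ≠ 0 := sub_ne_zero.mpr hc₂
  have stepA : ∀ u v, g 0 u v ∈ D := by
    intro u v
    have h1 := hD (g 0 (u / (c₁ - 1)) (v / (c₂ - 1)))
    rw [R1, hinv, mul_zero, R3] at h1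
    have e1 : c₁ * (u / (c₁ - 1)) + -(u / (c₁ - 1)) = u := by field_simp; try ring
    have e2 : c₂ * (v / (c₂ - 1)) + -(v / (c₂ - 1)) = v := by field_simp; try ring
    rw [e1, e2] at h1
    exact h1
  have stepB : ∀ t, g t 0 0 ∈ D := by
    intro t
    have h1 := hD (g (t / (μ - 1)) 0 0)
    rw [R1, mul_zero, mul_zero] at h1
    obtain ⟨u', v', e⟩ := R4 (μ * (t / (μ - 1))) (t / (μ - 1))
    rw [e, R2] at h1
    have e1 : μ * (t / (μ - 1)) - t / (μ - 1) = t := by field_simp; try ring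
    rw [e1] at h1
    have := mul_mem h1 (inv_mem (stepA u' v'))
    rwa [mul_inv_cancel_right] at this
  rw [R2]
  exact mul_mem (stepB t) (stepA u v)

namespace Sys

variable {K : Type*} [Field K] {G : Type*} [Group G] (S : Sys K G)

theorem word_split (hXa : S.Xa 0 = 1) (hXb : S.Xb 0 = 1) {θ : ℕ} (hθ : θ ≠ 0) (t u v : K) :
    S.word θ t u v = S.word θ t 0 0 * S.word θ 0 u v := by
  rw [S.word_eq, S.word_eq, S.word_eq, zero_pow hθ, hXa, hXb, zero_pow (Nat.succ_ne_zero θ),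
    zero_pow (Nat.succ_ne_zero (2 * θ))]
  simp only [one_mul, zero_add, add_zero]
  rw [mul_assoc (S.Xa (t ^ θ) * S.Xb t), S.hh_mul]
  simp only [zero_add, add_zero]

theorem word_zero_mul (hXa : S.Xa 0 = 1) (hXb : S.Xb 0 = 1) {θ : ℕ} (hθ : θ ≠ 0) (hK : FieldHyp K θ)
    (u v u' v' : K) : S.word θ 0 u v * S.word θ 0 u' v' = S.word θ 0 (u + u') (v + v') := by
  rw [S.word_eq, S.word_eq, S.word_eq, zero_pow hθ, hXa, hXb, zero_pow (Nat.succ_ne_zero θ),
    zero_pow (Nat.succ_ne_zero (2 * θ))]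
  simp only [one_mul, zero_add]
  rw [S.hh_mul, hK.hadd, hK.hadd]

end Sys

variable {K : Type*} [Field K]

/-- a representative of `w₀` conjugates `V` into `U` -/
theorem theta_w0_conj_neg (n : ↥(chevG2.monomialSubgroup K)) (hθ : thetaG2 n = w0G2) (u : GL chevG2.Idx K)
    (hu : u ∈ chevG2.negUnipotent K) :
    (n : GL chevG2.Idx K) * u * (n : GL chevG2.Idx K)⁻¹ ∈ chevG2.posUnipotent K := by
  unfold ChevalleyDatum.negUnipotent at hu
  induction hu using Subgroup.closure_induction with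
  | mem x hx =>
    obtain ⟨r, t, hr, hx⟩ := hx
    have hr' := (isNegRoot_G2 r).mp hr
    have e : x = xGL chevG2 K r t := Units.ext (by rw [hx, xGL_val _ _ (triOK_of_mem chevG2 hG2)])
    obtain ⟨-, t', e1⟩ := thetaG2_conj n r hr'.2 t
    rw [e, e1, hθ, phiG2_w0 r hr'.2]
    exact xGL_mem_posUnipotent _ (by omega) _
  | one => simp
  | mul a b _ _ ha hb =>
    have : (n : GL chevG2.Idx K) * (a * b) * (n : GL chevG2.Idx K)⁻¹ =
        ((n : GL chevG2.Idx K) * a * (n : GL chevG2.Idx K)⁻¹) *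
          ((n : GL chevG2.Idx K) * b * (n : GL chevG2.Idx K)⁻¹) := by group
    rw [this]
    exact mul_mem ha hb
  | inv a _ ha =>
    have : (n : GL chevG2.Idx K) * a⁻¹ * (n : GL chevG2.Idx K)⁻¹ =
        ((n : GL chevG2.Idx K) * a * (n : GL chevG2.Idx K)⁻¹)⁻¹ := by group
    rw [this]
    exact inv_mem ha

variable [CharP K 3]

theorem wV_mem_negUnipotent (θ : ℕ) (t u v : K) : wV θ t u v ∈ chevG2.negUnipotent K := by
  have h := fun k hk t => xGL_mem_negUnipotent (K := K) k hk t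
  exact mul_mem (mul_mem (mul_mem (mul_mem (mul_mem (h 4 (by omega) _) (h 5 (by omega) _)) (h 3 (by omega) _))
    (h 2 (by omega) _)) (h 1 (by omega) _)) (h 0 (by omega) _)

theorem posSys_Xa_zero : (posSys (K := K)).Xa 0 = 1 := Subtype.ext (xGL_zero' chevG2 hG2 7)

theorem posSys_Xb_zero : (posSys (K := K)).Xb 0 = 1 := Subtype.ext (xGL_zero' chevG2 hG2 6)

/-- all Ree words of `U` lie in the derived subgroup -/
theorem wU_mem_commutator [Fintype K] {m : ℕ} (hK : Fintype.card K = 3 ^ (2 * m + 1)) (hm : 1 ≤ m)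
    (hH : Nat.card ↥(chevG2.diagonalSubgroup K ⊓ twistedG2 K (3 ^ m)) = 3 ^ (2 * m + 1) - 1) (t u v : K) :
    (⟨wU (3 ^ m) t u v, wordU_mem_twistedG2 _ t u v⟩ : ↥(twistedG2 K (3 ^ m))) ∈
      commutator ↥(twistedG2 K (3 ^ m)) := by
  classical
  obtain ⟨σ, hσ'⟩ := exists_sigma hK
  have hσ : SigmaSpec m σ := hσ'
  have hF := fieldHyp hK
  have hθ : (3 : ℕ) ^ m ≠ 0 := pow_ne_zero _ (by norm_num)
  -- a generator of the torus
  let φ : ↥(chevG2.diagonalSubgroup K ⊓ twistedG2 K (3 ^ m)) →* Kˣ := (chiHom K (3 ^ m)).toHomUnits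
  have hφinj : Function.Injective φ := by
    intro a b hab
    apply chiHom_injective hK
    have := congrArg (fun x : Kˣ => (x : K)) hab
    simpa [φ, MonoidHom.coe_toHomUnits] using this
  have hcardU : Nat.card Kˣ = 3 ^ (2 * m + 1) - 1 := by
    rw [Nat.card_eq_fintype_card, Fintype.card_units, hK]
  have hφbij : Function.Bijective φ := hφinj.bijective_of_nat_card_le (by rw [hcardU, hH])
  obtain ⟨ζ, hζ⟩ := IsCyclic.exists_generator (α := Kˣ)
  have hord : orderOf ζ = 3 ^ (2 * m + 1) - 1 := by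
    rw [orderOf_eq_card_of_forall_mem_zpowers hζ, hcardU]
  obtain ⟨k, hk⟩ := hφbij.2 ζ
  have hkμ : chiB (k : GL chevG2.Idx K) = (ζ : K) := by
    rw [← hk]
    rfl
  have hpow : ∀ e : ℕ, 0 < e → e < 3 ^ (2 * m + 1) - 1 → (ζ : K) ^ e ≠ 1 := by
    intro e he1 he2 h1
    have h2 : ζ ^ e = 1 := Units.ext (by rw [Units.val_pow_eq_pow_val, h1, Units.val_one])
    have := orderOf_dvd_of_pow_eq_one h2
    rw [hord] at this
    exact absurd (Nat.le_of_dvd he1 this) (by omega)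
  have hbig : 3 * 3 ^ m + 2 < 3 ^ (2 * m + 1) - 1 := by
    have h1 : 3 ^ (2 * m + 1) = 3 * 3 ^ m * 3 ^ m := by ring
    have h2 : 3 ≤ 3 ^ m := by
      calc 3 = 3 ^ 1 := by norm_num
        _ ≤ 3 ^ m := Nat.pow_le_pow_right (by norm_num) hm
    have h3 : 3 * 3 ^ m * 3 ≤ 3 * 3 ^ m * 3 ^ m := Nat.mul_le_mul_left _ h2
    omega
  have hμ1 : (ζ : K) ≠ 1 := by
    have := hpow 1 (by norm_num) (by omega)
    rwa [pow_one] at this
  have hfix := (mem_FixS_iff.mp (twistedG2_le_FixS hK hσ k.2.2)).2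
  obtain ⟨kk, hkk⟩ : ∃ kk : ↥(twistedG2 K (3 ^ m)), kk = ⟨(k : GL chevG2.Idx K), k.2.2⟩ := ⟨_, rfl⟩
  have hkkv : (kk : GL chevG2.Idx K) = (k : GL chevG2.Idx K) := by rw [hkk]
  apply family_mem_of_comm (commutator ↥(twistedG2 K (3 ^ m)))
    (fun t u v => (⟨wU (3 ^ m) t u v, wordU_mem_twistedG2 _ t u v⟩ : ↥(twistedG2 K (3 ^ m)))) kk
    (ζ : K) ((ζ : K) ^ (3 * 3 ^ m + 1)) ((ζ : K) ^ (3 * 3 ^ m + 2)) hμ1
    (hpow _ (by omega) (by omega)) (hpow _ (by omega) (by omega))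
  · intro x
    rw [commutator_def]
    exact Subgroup.commutator_mem_commutator (Subgroup.mem_top kk) (Subgroup.mem_top x)
  · intro t u v
    apply Subtype.ext
    have := torus_act hK hσ (k : GL chevG2.Idx K) k.2.1 hfix t u v
    rw [hkμ] at this
    show (kk : GL chevG2.Idx K) * wU (3 ^ m) t u v * (kk : GL chevG2.Idx K)⁻¹ = _
    rw [hkkv, this, mul_inv_cancel_right]
  · intro t u v
    apply Subtype.ext
    have := congrArg (fun x : ↥(chevG2.group K) => (x : GL chevG2.Idx K))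
      ((posSys (K := K)).word_split posSys_Xa_zero posSys_Xb_zero hθ t u v)
    exact this
  · intro u v u' v'
    apply Subtype.ext
    have := congrArg (fun x : ↥(chevG2.group K) => (x : GL chevG2.Idx K))
      ((posSys (K := K)).word_zero_mul posSys_Xa_zero posSys_Xb_zero hθ hF u v u' v')
    exact this
  · intro s t
    have hwU : ∀ t u v : K, wU (3 ^ m) t u v ∈ chevG2.posUnipotent K :=
      fun t u v => wordU_mem_posUnipotent _ t u v
    have h1 : wU (3 ^ m) s 0 0 * (wU (3 ^ m) t 0 0)⁻¹ ∈ chevG2.posUnipotent K :=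
      mul_mem (hwU s 0 0) (inv_mem (hwU t 0 0))
    have h2 : wU (3 ^ m) s 0 0 * (wU (3 ^ m) t 0 0)⁻¹ ∈ twistedG2 K (3 ^ m) :=
      mul_mem (wordU_mem_twistedG2 _ s 0 0) (inv_mem (wordU_mem_twistedG2 _ t 0 0))
    obtain ⟨t', u', v', e⟩ := fixed_posUnipotent hK hσ _ h1 (twistedG2_le_FixS hK hσ h2)
    have e' : wU (3 ^ m) s 0 0 * (wU (3 ^ m) t 0 0)⁻¹ = wU (3 ^ m) t' u' v' := e
    have h3 := congrArg coordB e'
    rw [coordB_mul _ _ (hwU s 0 0) (inv_mem (hwU t 0 0)),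
      coordB_inv _ (hwU t 0 0), coordB_wU, coordB_wU, coordB_wU] at h3
    refine ⟨u', v', Subtype.ext ?_⟩
    show wU (3 ^ m) s 0 0 * (wU (3 ^ m) t 0 0)⁻¹ = wU (3 ^ m) (s - t) u' v'
    rw [e', ← h3, sub_eq_add_neg]

/-- `²G₂(3^(2m+1))`, `m ≥ 1`, is perfect, given the order of its torus -/
theorem perfect_ree_of_torus [Fintype K] {m : ℕ} (hK : Fintype.card K = 3 ^ (2 * m + 1)) (hm : 1 ≤ m)
    (hH : Nat.card ↥(chevG2.diagonalSubgroup K ⊓ twistedG2 K (3 ^ m)) = 3 ^ (2 * m + 1) - 1) :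
    commutator ↥(twistedG2 K (3 ^ m)) = ⊤ := by
  obtain ⟨σ, hσ'⟩ := exists_sigma hK
  have hσ : SigmaSpec m σ := hσ'
  obtain ⟨n₀, hn₀G, hθ₀⟩ := exists_n0 hK hσ
  rw [eq_top_iff]
  -- it suffices to see that the image of the derived subgroup contains the generators
  have key : twistedG2 K (3 ^ m) ≤ (commutator ↥(twistedG2 K (3 ^ m))).map (twistedG2 K (3 ^ m)).subtype := by
    have hU : ∀ t u v : K, wU (3 ^ m) t u v ∈
        (commutator ↥(twistedG2 K (3 ^ m))).map (twistedG2 K (3 ^ m)).subtype := by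
      intro t u v
      exact ⟨_, wU_mem_commutator hK hm hH t u v, rfl⟩
    unfold twistedG2 ChevalleyDatum.genSubgroup
    rw [Subgroup.closure_le]
    rintro g ⟨w, hw, hg⟩
    obtain ⟨t, u, v, rfl | rfl⟩ := hw
    · have e : g = wU (3 ^ m) t u v := Units.ext (by rw [hg]; exact (wordU_val _ t u v).symm)
      rw [e]
      exact hU t u v
    · have e : g = wV (3 ^ m) t u v := Units.ext (by rw [hg]; exact (wordV_val _ t u v).symm)
      rw [e]
      -- conjugate into `U`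
      have hn₀inv : thetaG2 n₀⁻¹ = w0G2 := by rw [map_inv, hθ₀, w0G2_inv]
      have h1 := theta_w0_conj_neg n₀⁻¹ hn₀inv _ (wV_mem_negUnipotent (3 ^ m) t u v)
      have h2 : ((n₀⁻¹ : ↥(chevG2.monomialSubgroup K)) : GL chevG2.Idx K) * wV (3 ^ m) t u v *
          ((n₀⁻¹ : ↥(chevG2.monomialSubgroup K)) : GL chevG2.Idx K)⁻¹ ∈ twistedG2 K (3 ^ m) := by
        rw [Subgroup.coe_inv]
        exact mul_mem (mul_mem (inv_mem hn₀G) (wordV_mem_twistedG2 _ t u v)) (inv_mem (inv_mem hn₀G))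
      obtain ⟨t', u', v', e2⟩ := fixed_posUnipotent hK hσ _ h1 (twistedG2_le_FixS hK hσ h2)
      have e3 : wV (3 ^ m) t u v = (n₀ : GL chevG2.Idx K) * wU (3 ^ m) t' u' v' * (n₀ : GL chevG2.Idx K)⁻¹ := by
        have e2' : ((n₀⁻¹ : ↥(chevG2.monomialSubgroup K)) : GL chevG2.Idx K) * wV (3 ^ m) t u v *
          ((n₀⁻¹ : ↥(chevG2.monomialSubgroup K)) : GL chevG2.Idx K)⁻¹ = wU (3 ^ m) t' u' v' := e2
        rw [← e2', Subgroup.coe_inv]
        group
      rw [e3]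
      have hnorm : (commutator ↥(twistedG2 K (3 ^ m))).Normal := inferInstance
      have h4 := hnorm.conj_mem _ (wU_mem_commutator hK hm hH t' u' v') ⟨(n₀ : GL chevG2.Idx K), hn₀G⟩
      exact ⟨_, h4, rfl⟩
  intro x _
  obtain ⟨y, hy, hyx⟩ := key x.2
  have : y = x := Subtype.ext hyx
  rw [← this]
  exact hy

end Cfsg.Agent.Helper18.Ree
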