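import Cfsg.Agent.Helper18.Ree.TorusAct
import Cfsg.Agent.Helper40.SL2Chev

/-!
A homomorphism `SL₂(K) → ²G₂(K)` from the pair of orthogonal roots `a + b`, `3a + b`.
-/

set_option autoImplicit false
set_option maxRecDepth 100000

namespace Cfsg.Agent.Helper18.Ree

open Cfsg Cfsg.Lie Cfsg.Agent.Helper18 Cfsg.Agent.Helper40.SL2Hom

section Abstract

variable {F : Type*} [Field F] {Γ : Type*} [Group Γ]

theorem three_mul_comm {a b c a' b' c' : Γ} (h1 : Commute a' b) (h2 : Commute a' c) (h3 : Commute b' c) :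
    (a * a') * (b * b') * (c * c') = (a * b * c) * (a' * b' * c') := by
  rw [h1.mul_mul_mul_comm, (h2.mul_left h3).mul_mul_mul_comm]

/-- two commuting rank-one systems, the first twisted by a field endomorphism, give a rank-one system -/
theorem rel_prod_twist {x₁ y₁ x₂ y₂ : F → Γ} (R₁ : Rel x₁ y₁) (R₂ : Rel x₂ y₂) (f : F →+* F)
    (hxx : ∀ s t, Commute (x₁ s) (x₂ t)) (hxy : ∀ s t, Commute (x₁ s) (y₂ t))
    (hyx : ∀ s t, Commute (y₁ s) (x₂ t)) (hyy : ∀ s t, Commute (y₁ s) (y₂ t)) :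
    Rel (fun t => x₁ (f t) * x₂ t) (fun t => y₁ (f t) * y₂ t) ∧
      (∀ t, w (fun t => x₁ (f t) * x₂ t) (fun t => y₁ (f t) * y₂ t) t = w x₁ y₁ (f t) * w x₂ y₂ t) ∧
      (∀ t, h (fun t => x₁ (f t) * x₂ t) (fun t => y₁ (f t) * y₂ t) t = h x₁ y₁ (f t) * h x₂ y₂ t) := by
  have hw : ∀ t, w (fun t => x₁ (f t) * x₂ t) (fun t => y₁ (f t) * y₂ t) t = w x₁ y₁ (f t) * w x₂ y₂ t := by
    intro t
    unfold w
    simp only
    rw [map_neg, map_inv₀]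
    exact three_mul_comm (hyx _ _).symm (hxx _ _).symm (hxy _ _).symm
  -- commutation of the derived elements
  have cw₁x₂ : ∀ s u, Commute (w x₁ y₁ s) (x₂ u) := fun s u =>
    ((hxx _ _).mul_left (hyx _ _)).mul_left (hxx _ _)
  have cw₁y₂ : ∀ s u, Commute (w x₁ y₁ s) (y₂ u) := fun s u =>
    ((hxy _ _).mul_left (hyy _ _)).mul_left (hxy _ _)
  have cw₁w₂ : ∀ s u, Commute (w x₁ y₁ s) (w x₂ y₂ u) := fun s u =>
    ((cw₁x₂ _ _).mul_right (cw₁y₂ _ _)).mul_right (cw₁x₂ _ _)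
  have cx₁w₂ : ∀ s u, Commute (x₁ s) (w x₂ y₂ u) := fun s u =>
    ((hxx _ _).mul_right (hxy _ _)).mul_right (hxx _ _)
  have hh : ∀ t, h (fun t => x₁ (f t) * x₂ t) (fun t => y₁ (f t) * y₂ t) t = h x₁ y₁ (f t) * h x₂ y₂ t := by
    intro t
    unfold h
    rw [hw, hw, map_one, mul_inv_rev]
    have c1 : Commute (w x₂ y₂ t) (w x₁ y₁ 1)⁻¹ := (cw₁w₂ 1 t).symm.inv_right
    have c2 : Commute (w x₂ y₂ 1)⁻¹ (w x₁ y₁ 1)⁻¹ := (cw₁w₂ 1 1).symm.inv_inv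
    calc w x₁ y₁ (f t) * w x₂ y₂ t * ((w x₂ y₂ 1)⁻¹ * (w x₁ y₁ 1)⁻¹)
        = w x₁ y₁ (f t) * w x₂ y₂ t * ((w x₁ y₁ 1)⁻¹ * (w x₂ y₂ 1)⁻¹) := by rw [c2.eq]
      _ = w x₁ y₁ (f t) * (w x₂ y₂ t * (w x₁ y₁ 1)⁻¹) * (w x₂ y₂ 1)⁻¹ := by simp only [mul_assoc]
      _ = w x₁ y₁ (f t) * ((w x₁ y₁ 1)⁻¹ * w x₂ y₂ t) * (w x₂ y₂ 1)⁻¹ := by rw [c1.eq]
      _ = _ := by simp only [mul_assoc]
  refine ⟨⟨?_, ?_, ?_, ?_⟩, hw, hh⟩
  · intro s t
    rw [map_add, R₁.x_add, R₂.x_add, (hxx _ _).symm.mul_mul_mul_comm]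
  · intro s t
    rw [map_add, R₁.y_add, R₂.y_add, (hyy _ _).symm.mul_mul_mul_comm]
  · intro t u ht
    rw [hw]
    have hft : f t ≠ 0 := (map_ne_zero f).mpr ht
    rw [map_neg, map_mul, map_mul, map_inv₀, ← R₁.conj (f t) (f u) hft, ← R₂.conj t u ht, mul_inv_rev]
    have c1 : Commute (w x₂ y₂ t) (x₁ (f u)) := (cx₁w₂ _ _).symm
    have c2 : Commute (w x₂ y₂ t)⁻¹ (w x₁ y₁ (f t))⁻¹ := (cw₁w₂ _ _).symm.inv_inv
    have c3 : Commute (w x₂ y₂ t * x₂ u * (w x₂ y₂ t)⁻¹) (w x₁ y₁ (f t))⁻¹ :=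
      (((cw₁w₂ _ _).symm.mul_left (cw₁x₂ _ _).symm).mul_left (cw₁w₂ _ _).symm.inv_left).inv_right
    calc w x₁ y₁ (f t) * w x₂ y₂ t * (x₁ (f u) * x₂ u) * ((w x₂ y₂ t)⁻¹ * (w x₁ y₁ (f t))⁻¹)
        = w x₁ y₁ (f t) * (w x₂ y₂ t * x₁ (f u)) * x₂ u * ((w x₂ y₂ t)⁻¹ * (w x₁ y₁ (f t))⁻¹) := by
          simp only [mul_assoc]
      _ = w x₁ y₁ (f t) * (x₁ (f u) * w x₂ y₂ t) * x₂ u * ((w x₂ y₂ t)⁻¹ * (w x₁ y₁ (f t))⁻¹) := by rw [c1.eq]
      _ = w x₁ y₁ (f t) * x₁ (f u) * ((w x₂ y₂ t * x₂ u * (w x₂ y₂ t)⁻¹) * (w x₁ y₁ (f t))⁻¹) := by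
          simp only [mul_assoc]
      _ = w x₁ y₁ (f t) * x₁ (f u) * ((w x₁ y₁ (f t))⁻¹ * (w x₂ y₂ t * x₂ u * (w x₂ y₂ t)⁻¹)) := by rw [c3.eq]
      _ = _ := by simp only [mul_assoc]
  · intro s t hs ht
    have hfs : f s ≠ 0 := (map_ne_zero f).mpr hs
    have hft : f t ≠ 0 := (map_ne_zero f).mpr ht
    rw [hh, hh, hh, map_mul, R₁.h_mul _ _ hfs hft, R₂.h_mul _ _ hs ht]
    have c : Commute (h x₁ y₁ (f t)) (h x₂ y₂ s) := by
      unfold h
      exact ((cw₁w₂ _ _).mul_right (cw₁w₂ _ _).inv_right).mul_left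
        ((cw₁w₂ _ _).inv_left.mul_right (cw₁w₂ _ _).inv_inv)
    rw [c.mul_mul_mul_comm]

end Abstract

variable {K : Type*} [Field K]

theorem addOK_G2 : Cfsg.Agent.Helper40.ChevAdd.addOK chevG2 = true :=
  Cfsg.Agent.Helper40.ChevAdd.addOK_of_mem hG2

theorem xGL40_eq (r : ℕ) (t : K) : Cfsg.Agent.Helper40.ChevAdd.xGL chevG2 addOK_G2 K r t = xGL chevG2 K r t :=
  Units.ext (by rw [Cfsg.Agent.Helper40.ChevAdd.coe_xGL, xGL_val chevG2 _ (triOK_of_mem chevG2 hG2)])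

theorem neg_G2 (r : ℕ) (hr : r < 12) : chevG2.neg r = 11 - r := by
  interval_cases r <;> rfl

/-- the rank-one relations for a root of `G₂`, in terms of `xGL` -/
theorem relG2 (r : ℕ) (hr : r < 12) : Rel (xGL chevG2 K r) (xGL chevG2 K (11 - r)) := by
  have := Cfsg.Agent.Helper40.SL2Chev.rel (F := K) chevG2 addOK_G2 hG2 r hr
  have e1 : Cfsg.Agent.Helper40.ChevAdd.xGL chevG2 addOK_G2 K r = xGL chevG2 K r := funext (xGL40_eq r)
  have e2 : Cfsg.Agent.Helper40.ChevAdd.xGL chevG2 addOK_G2 K (chevG2.neg r) = xGL chevG2 K (11 - r) := by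
    rw [neg_G2 r hr]
    exact funext (xGL40_eq (11 - r))
  rw [e1, e2] at this
  exact this

theorem ct_8_1 : chevG2.commTerms 8 1 = [] := by decide +kernel
theorem ct_3_10 : chevG2.commTerms 3 10 = [] := by decide +kernel

variable [CharP K 3]

/-- the Frobenius power `t ↦ t ^ (3 ^ m)` as a ring endomorphism -/
noncomputable def frobPow (K : Type*) [Field K] [CharP K 3] (m : ℕ) : K →+* K :=
  haveI : Fact (Nat.Prime 3) := ⟨Nat.prime_three⟩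
  iterateFrobenius K 3 m

theorem frobPow_apply (m : ℕ) (t : K) : frobPow K m t = t ^ 3 ^ m := by
  have : Fact (Nat.Prime 3) := ⟨Nat.prime_three⟩
  exact iterateFrobenius_def 3 m t

/-- the root elements of the two orthogonal roots -/
noncomputable def XL (m : ℕ) (t : K) : GL chevG2.Idx K := xGL chevG2 K 8 (frobPow K m t) * xGL chevG2 K 10 t

noncomputable def YL (m : ℕ) (t : K) : GL chevG2.Idx K := xGL chevG2 K 3 (frobPow K m t) * xGL chevG2 K 1 t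

theorem relL_aux (m : ℕ) :
    Rel (XL (K := K) m) (YL (K := K) m) ∧
      (∀ t, w (XL (K := K) m) (YL (K := K) m) t =
        w (xGL chevG2 K 8) (xGL chevG2 K 3) (frobPow K m t) * w (xGL chevG2 K 10) (xGL chevG2 K 1) t) ∧
      (∀ t, h (XL (K := K) m) (YL (K := K) m) t =
        h (xGL chevG2 K 8) (xGL chevG2 K 3) (frobPow K m t) * h (xGL chevG2 K 10) (xGL chevG2 K 1) t) :=
  rel_prod_twist (relG2 8 (by decide)) (relG2 10 (by decide)) (frobPow K m)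
    (fun s t => commute_of_nil 8 10 (by decide) (by decide) (by decide) (by decide) ct_8_10 s t)
    (fun s t => commute_of_nil 8 1 (by decide) (by decide) (by decide) (by decide) ct_8_1 s t)
    (fun s t => commute_of_nil 3 10 (by decide) (by decide) (by decide) (by decide) ct_3_10 s t)
    (fun s t => commute_of_nil 3 1 (by decide) (by decide) (by decide) (by decide) ct_3_1 s t)

theorem relL (m : ℕ) : Rel (XL (K := K) m) (YL (K := K) m) := (relL_aux m).1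

/-- the homomorphism `SL₂(K) → GL₁₄(K)` -/
noncomputable def psiL (K : Type*) [Field K] [CharP K 3] (m : ℕ) :
    Matrix.SpecialLinearGroup (Fin 2) K →* GL chevG2.Idx K := (relL (K := K) m).hom

theorem XL_eq_wU (m : ℕ) (t : K) : XL m t = wU (3 ^ m) 0 t 0 := by
  have hθ : (3 : ℕ) ^ m ≠ 0 := pow_ne_zero _ (by norm_num)
  rw [wU_eq, XL, frobPow_apply, zero_pow hθ, zero_pow (Nat.succ_ne_zero _), zero_pow (Nat.succ_ne_zero _),
    xGL_zero' chevG2 hG2, xGL_zero' chevG2 hG2, xGL_zero' chevG2 hG2, zero_add, zero_add, xGL_zero' chevG2 hG2]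
  simp only [one_mul, mul_one]

theorem wV_eq (θ : ℕ) (t u v : K) : wV θ t u v = xGL chevG2 K 4 (-(t ^ θ)) * xGL chevG2 K 5 (-t) *
    xGL chevG2 K 3 (-(t ^ (θ + 1) + u ^ θ)) * xGL chevG2 K 2 (-(t ^ (2 * θ + 1) + v ^ θ)) * xGL chevG2 K 1 (-u) *
    xGL chevG2 K 0 (-v) := rfl

theorem YL_eq_wV (m : ℕ) (t : K) : YL m t = wV (3 ^ m) 0 (-t) 0 := by
  have hθ : (3 : ℕ) ^ m ≠ 0 := pow_ne_zero _ (by norm_num)
  rw [wV_eq, YL, frobPow_apply, zero_pow hθ, zero_pow (Nat.succ_ne_zero _), zero_pow (Nat.succ_ne_zero _),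
    neg_zero, xGL_zero' chevG2 hG2, xGL_zero' chevG2 hG2, xGL_zero' chevG2 hG2, zero_add, zero_add, neg_zero,
    xGL_zero' chevG2 hG2, (odd_three_pow m).neg_pow, neg_neg, neg_neg]
  simp only [one_mul, mul_one]

theorem XL_mem (m : ℕ) (t : K) : XL m t ∈ twistedG2 K (3 ^ m) := by
  rw [XL_eq_wU]
  exact wordU_mem_twistedG2 _ _ _ _

theorem YL_mem (m : ℕ) (t : K) : YL m t ∈ twistedG2 K (3 ^ m) := by
  rw [YL_eq_wV]
  exact wordV_mem_twistedG2 _ _ _ _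

theorem psiL_range_le (m : ℕ) : (psiL K m).range ≤ twistedG2 K (3 ^ m) := by
  unfold psiL
  rw [(relL (K := K) m).range_hom, Subgroup.closure_le]
  rintro _ (⟨t, rfl⟩ | ⟨t, rfl⟩)
  · exact XL_mem m t
  · exact YL_mem m t

theorem psiL_U (m : ℕ) (t : K) : psiL K m (U t) = XL m t := (relL (K := K) m).hom_U t

theorem psiL_L (m : ℕ) (t : K) : psiL K m (L t) = YL m t := (relL (K := K) m).hom_L t

/-- the torus elements -/
noncomputable def hL (m : ℕ) (t : K) : GL chevG2.Idx K := h (XL (K := K) m) (YL (K := K) m) t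

theorem hL_mem (m : ℕ) (t : K) : hL m t ∈ twistedG2 K (3 ^ m) := by
  unfold hL h w
  have hx := XL_mem (K := K) m
  have hy := YL_mem (K := K) m
  exact mul_mem (mul_mem (mul_mem (hx _) (hy _)) (hx _)) (inv_mem (mul_mem (mul_mem (hx _) (hy _)) (hx _)))

theorem hL_eq (m : ℕ) (t : K) : hL m t =
    h (xGL chevG2 K 8) (xGL chevG2 K 3) (t ^ 3 ^ m) * h (xGL chevG2 K 10) (xGL chevG2 K 1) t := by
  unfold hL
  rw [(relL_aux m).2.2 t, frobPow_apply]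

end Cfsg.Agent.Helper18.Ree
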