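import Cfsg.Agent.Helper18.Ree.Perfect
import Cfsg.Agent.S0319
import Cfsg.Agent.S1050
import Cfsg.Agent.S1117

/-!
`²G₂(3^(2m+1))` is simple for `m ≥ 1`, given the order of its torus.
-/

set_option autoImplicit false
set_option maxRecDepth 100000

namespace Cfsg.Agent.Helper18.Ree

open Cfsg Cfsg.Lie Cfsg.Agent.Helper18

variable {K : Type*} [Field K]

theorem simple_ree_of_torus [Fintype K] {m : ℕ} (hK : Fintype.card K = 3 ^ (2 * m + 1)) (hm : 1 ≤ m)
    (hH : Nat.card ↥(chevG2.diagonalSubgroup K ⊓ twistedG2 K (3 ^ m)) = 3 ^ (2 * m + 1) - 1) :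
    IsSimpleGroup ↥(twistedG2 K (3 ^ m)) ∧ ¬ IsMulCommutative ↥(twistedG2 K (3 ^ m)) := by
  have := charP_three hK
  obtain ⟨P, hB, -, n₀, hn₀, -, hS⟩ := exists_bnPair_ree hK
  have hperf := perfect_ree_of_torus hK hm hH
  have hirr : P.Irreducible := by
    intro J hJS hne hcne
    exfalso
    obtain ⟨s, hs⟩ := hne
    obtain ⟨s', hs', hs'J⟩ := hcne
    rw [hS] at hJS hs'
    have h1 : s = ⟨(n₀ : GL chevG2.Idx K), hn₀⟩ := hJS hs
    have h2 : s' = ⟨(n₀ : GL chevG2.Idx K), hn₀⟩ := hs'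
    apply hs'J
    rw [h2, ← h1]
    exact hs
  have hnt : Nontrivial ↥(twistedG2 K (3 ^ m)) := by
    have hu0G : u0 K ∈ twistedG2 K (3 ^ m) := u0_mem_twisted _ (pow_ne_zero _ (by norm_num))
    exact ⟨⟨⟨u0 K, hu0G⟩, 1, fun e => u0_ne_one (congrArg Subtype.val e)⟩⟩
  have hsolv := Cfsg.Agent.S1050.result (F := K) chevG2 hG2
  have hsolvB : Group.IsSolvable P.B := by
    rw [hB]
    let φ : ↥((chevG2.borelSubgroup K ⊓ twistedG2 K (3 ^ m)).subgroupOf (twistedG2 K (3 ^ m))) →*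
        ↥(chevG2.borelSubgroup K) :=
      { toFun := fun x => ⟨((x : ↥(twistedG2 K (3 ^ m))) : GL chevG2.Idx K), (Subgroup.mem_subgroupOf.mp x.2).1⟩
        map_one' := rfl
        map_mul' := fun _ _ => rfl }
    have hφ : Function.Injective φ := by
      intro a b hab
      apply Subtype.ext
      apply Subtype.ext
      exact congrArg (fun g : ↥(chevG2.borelSubgroup K) => (g : GL chevG2.Idx K)) hab
    exact @Group.isSolvable_of_isSolvable_injective _ _ _ _ _ hφ hsolv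
  have hcore : P.B.normalCore = ⊥ := by
    rw [hB]
    exact Cfsg.Agent.S1117.result hK
  refine ⟨@Cfsg.Agent.S0319.result _ _ hnt P hirr hsolvB hperf hcore, ?_⟩
  intro hcomm
  obtain ⟨a, b, hab⟩ := hnt
  have hbot : commutator ↥(twistedG2 K (3 ^ m)) = ⊥ := by
    rw [commutator_def, Subgroup.commutator_eq_bot_iff_le_centralizer]
    intro g _
    rw [Subgroup.mem_centralizer_iff]
    intro h' _
    exact hcomm.is_comm.comm h' g
  rw [hbot] at hperf
  have ha : a ∈ (⊤ : Subgroup ↥(twistedG2 K (3 ^ m))) := Subgroup.mem_top a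
  have hb : b ∈ (⊤ : Subgroup ↥(twistedG2 K (3 ^ m))) := Subgroup.mem_top b
  rw [← hperf, Subgroup.mem_bot] at ha hb
  exact hab (ha.trans hb.symm)

end Cfsg.Agent.Helper18.Ree
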