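import Cfsg.Agent.Helper18.Ree.Small
import Cfsg.Agent.Helper18.Borel
import Cfsg.Agent.Helper18.Monomial
import Cfsg.Agent.S1036
import Cfsg.Agent.S1040
import Cfsg.Agent.S1043

/-!
The twist `σ` as a map on the general linear group (junk outside the Chevalley group), and the stability of
`U`, `V`, `H`, `N`, `B` under it.
-/

set_option autoImplicit false
set_option maxRecDepth 100000

namespace Cfsg.Agent.Helper18.Ree

open Cfsg Cfsg.Lie Cfsg.Agent.Helper18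

variable {K : Type*} [Field K]

/-- the twist, extended by `1` outside the Chevalley group -/
noncomputable def sv (σ : ↥(chevG2.group K) ≃* ↥(chevG2.group K)) (g : GL chevG2.Idx K) : GL chevG2.Idx K :=
  open Classical in if h : g ∈ chevG2.group K then ((σ ⟨g, h⟩ : ↥(chevG2.group K)) : GL chevG2.Idx K) else 1

variable {σ : ↥(chevG2.group K) ≃* ↥(chevG2.group K)}

theorem sv_of_mem {g : GL chevG2.Idx K} (hg : g ∈ chevG2.group K) :
    sv σ g = ((σ ⟨g, hg⟩ : ↥(chevG2.group K)) : GL chevG2.Idx K) := dif_pos hg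

theorem sv_mem (g : GL chevG2.Idx K) : sv σ g ∈ chevG2.group K := by
  unfold sv
  split_ifs with h
  · exact Subtype.property _
  · exact Subgroup.one_mem _

theorem sv_mul {a b : GL chevG2.Idx K} (ha : a ∈ chevG2.group K) (hb : b ∈ chevG2.group K) :
    sv σ (a * b) = sv σ a * sv σ b := by
  rw [sv_of_mem ha, sv_of_mem hb, sv_of_mem (mul_mem ha hb)]
  have : (⟨a * b, mul_mem ha hb⟩ : ↥(chevG2.group K)) = ⟨a, ha⟩ * ⟨b, hb⟩ := rfl
  rw [this, map_mul]
  rfl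

theorem sv_one : sv σ (1 : GL chevG2.Idx K) = 1 := by
  rw [sv_of_mem (Subgroup.one_mem _)]
  have : (⟨1, Subgroup.one_mem _⟩ : ↥(chevG2.group K)) = 1 := rfl
  rw [this, map_one]
  rfl

theorem sv_inv {a : GL chevG2.Idx K} (ha : a ∈ chevG2.group K) : sv σ a⁻¹ = (sv σ a)⁻¹ := by
  rw [sv_of_mem ha, sv_of_mem (inv_mem ha)]
  have : (⟨a⁻¹, inv_mem ha⟩ : ↥(chevG2.group K)) = (⟨a, ha⟩ : ↥(chevG2.group K))⁻¹ := rfl
  rw [this, map_inv]
  rfl

theorem sv_injective {a b : GL chevG2.Idx K} (ha : a ∈ chevG2.group K) (hb : b ∈ chevG2.group K)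
    (h : sv σ a = sv σ b) : a = b := by
  rw [sv_of_mem ha, sv_of_mem hb] at h
  have := σ.injective (Subtype.ext h)
  exact congrArg Subtype.val this

theorem mem_FixS_iff {g : GL chevG2.Idx K} : g ∈ FixS σ ↔ g ∈ chevG2.group K ∧ sv σ g = g := by
  rw [mem_FixS]
  constructor
  · rintro ⟨h, hg⟩
    refine ⟨h, ?_⟩
    rw [sv_of_mem h, hg]
  · rintro ⟨h, hg⟩
    refine ⟨h, Subtype.ext ?_⟩
    rw [sv_of_mem h] at hg
    exact hg

theorem sv_xGL {m : ℕ} (hσ : SigmaSpec m σ) (r : ℕ) (hr : r < 12) (t : K) :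
    sv σ (xGL chevG2 K r t) = xGL chevG2 K (rho r) (t ^ sexp m r) := by
  rw [sv_of_mem (xGL_mem_group' chevG2 hG2 r t)]
  have := hσ.map_XG r hr t
  exact congrArg Subtype.val this

/-- `σ` maps the closure of `S` into `T` if it does so on `S` -/
theorem sv_closure (S : Set (GL chevG2.Idx K)) (T : Subgroup (GL chevG2.Idx K))
    (hS : ∀ g ∈ S, g ∈ chevG2.group K ∧ sv σ g ∈ T) :
    ∀ g ∈ Subgroup.closure S, g ∈ chevG2.group K ∧ sv σ g ∈ T := by
  intro g hg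
  induction hg using Subgroup.closure_induction with
  | mem x hx => exact hS x hx
  | one => exact ⟨Subgroup.one_mem _, by rw [sv_one]; exact Subgroup.one_mem _⟩
  | mul a b _ _ ha hb => exact ⟨mul_mem ha.1 hb.1, by rw [sv_mul ha.1 hb.1]; exact mul_mem ha.2 hb.2⟩
  | inv a _ ha => exact ⟨inv_mem ha.1, by rw [sv_inv ha.1]; exact inv_mem ha.2⟩

theorem isNegRoot_G2 (r : ℕ) : chevG2.IsNegRoot r ↔ r < 6 ∧ r < 12 :=
  isNegRoot_iff chevG2 _ (posOK_of_mem chevG2 hG2) r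

theorem rho_pos : ∀ r, 6 ≤ r ∧ r < 12 → 6 ≤ rho r ∧ rho r < 12 := by
  intro r hr
  obtain ⟨h1, h2⟩ := hr
  interval_cases r <;> decide

theorem rho_neg' : ∀ r, r < 6 → rho r < 6 ∧ rho r < 12 := by
  intro r hr
  interval_cases r <;> decide

theorem rho_lt : ∀ r, r < 12 → rho r < 12 := by
  intro r hr
  interval_cases r <;> decide

theorem xGL_mem_negUnipotent (k : ℕ) (hk : k < 6) (t : K) : xGL chevG2 K k t ∈ chevG2.negUnipotent K := by
  apply Subgroup.subset_closure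
  exact ⟨k, t, (isNegRoot_G2 k).mpr ⟨hk, by omega⟩, xGL_val chevG2 _ (triOK_of_mem chevG2 hG2) k t⟩

theorem sv_posUnipotent {m : ℕ} (hσ : SigmaSpec m σ) (g : GL chevG2.Idx K) (hg : g ∈ chevG2.posUnipotent K) :
    g ∈ chevG2.group K ∧ sv σ g ∈ chevG2.posUnipotent K := by
  apply sv_closure _ _ _ g hg
  rintro x ⟨r, t, hr, hx⟩
  have hr' := (isPosRoot_G2 r).mp hr
  have e : x = xGL chevG2 K r t := Units.ext (by rw [hx, xGL_val _ _ (triOK_of_mem chevG2 hG2)])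
  rw [e, sv_xGL hσ r hr'.2]
  exact ⟨xGL_mem_group' chevG2 hG2 r t, xGL_mem_posUnipotent _ (rho_pos r hr') _⟩

theorem sv_negUnipotent {m : ℕ} (hσ : SigmaSpec m σ) (g : GL chevG2.Idx K) (hg : g ∈ chevG2.negUnipotent K) :
    g ∈ chevG2.group K ∧ sv σ g ∈ chevG2.negUnipotent K := by
  apply sv_closure _ _ _ g hg
  rintro x ⟨r, t, hr, hx⟩
  have hr' := (isNegRoot_G2 r).mp hr
  have e : x = xGL chevG2 K r t := Units.ext (by rw [hx, xGL_val _ _ (triOK_of_mem chevG2 hG2)])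
  rw [e, sv_xGL hσ r hr'.2]
  exact ⟨xGL_mem_group' chevG2 hG2 r t, xGL_mem_negUnipotent _ (rho_neg' r hr'.1).1 _⟩

end Cfsg.Agent.Helper18.Ree
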