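import Cfsg.Agent.Helper18.Ree.Stable
import Cfsg.Agent.Helper18.NuRel

/-!
Stability of `H`, `N`, `B` under the twist.
-/

set_option autoImplicit false
set_option maxRecDepth 100000

namespace Cfsg.Agent.Helper18.Ree

open Cfsg Cfsg.Lie Cfsg.Agent.Helper18

variable {K : Type*} [Field K] {σ : ↥(chevG2.group K) ≃* ↥(chevG2.group K)}

theorem rho_neg_eq : ∀ r, r < 12 → rho (chevG2.neg r) = chevG2.neg (rho r) := by
  intro r hr
  interval_cases r <;> decide

theorem neg_lt : ∀ r, r < 12 → chevG2.neg r < 12 := by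
  intro r hr
  interval_cases r <;> decide

theorem sexp_neg (m : ℕ) : ∀ r, r < 12 → sexp m (chevG2.neg r) = sexp m r := by
  intro r hr
  unfold sexp
  congr 1
  interval_cases r <;> decide

theorem sexp_odd (m r : ℕ) : Odd (sexp m r) := by
  unfold sexp GraphAut.GData.lam
  split_ifs
  · exact Odd.mul (odd_three_pow m) (by decide)
  · rw [mul_one]; exact odd_three_pow m

theorem nGL_mem_group (r : ℕ) (t : K) : wordGL chevG2 K (chevG2.nWord r t) ∈ chevG2.group K := by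
  rw [wordGL_nWord']
  exact mul_mem (mul_mem (xGL_mem_group' chevG2 hG2 _ _) (xGL_mem_group' chevG2 hG2 _ _))
    (xGL_mem_group' chevG2 hG2 _ _)

theorem sv_nGL {m : ℕ} (hσ : SigmaSpec m σ) (r : ℕ) (hr : r < 12) (t : K) :
    sv σ (wordGL chevG2 K (chevG2.nWord r t)) = wordGL chevG2 K (chevG2.nWord (rho r) (t ^ sexp m r)) := by
  rw [wordGL_nWord', wordGL_nWord']
  have h1 := xGL_mem_group' (F := K) chevG2 hG2
  rw [sv_mul (mul_mem (h1 _ _) (h1 _ _)) (h1 _ _), sv_mul (h1 _ _) (h1 _ _), sv_xGL hσ r hr,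
    sv_xGL hσ _ (neg_lt r hr), rho_neg_eq r hr, sexp_neg m r hr, (sexp_odd m r).neg_pow, inv_pow]

theorem sv_hGL {m : ℕ} (hσ : SigmaSpec m σ) (r : ℕ) (hr : r < 12) (t : K) :
    sv σ (wordGL chevG2 K (chevG2.hWord r t)) = wordGL chevG2 K (chevG2.hWord (rho r) (t ^ sexp m r)) := by
  rw [wordGL_hWord, wordGL_hWord, sv_mul (nGL_mem_group _ _) (nGL_mem_group _ _), sv_nGL hσ r hr, sv_nGL hσ r hr,
    (sexp_odd m r).neg_one_pow]

theorem sv_diagonal {m : ℕ} (hσ : SigmaSpec m σ) (g : GL chevG2.Idx K) (hg : g ∈ chevG2.diagonalSubgroup K) :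
    g ∈ chevG2.group K ∧ sv σ g ∈ chevG2.diagonalSubgroup K := by
  apply sv_closure _ _ _ g hg
  rintro x ⟨r, t, hr, ht, hx⟩
  have e : x = wordGL chevG2 K (chevG2.hWord r t) := Units.ext (by rw [hx, hWordGL_val chevG2 hG2])
  rw [e, sv_hGL hσ r hr]
  refine ⟨?_, hWordGL_mem_diagonalSubgroup chevG2 hG2 _ (rho_lt r hr) _ (pow_ne_zero _ ht)⟩
  rw [wordGL_hWord]
  exact mul_mem (nGL_mem_group _ _) (nGL_mem_group _ _)

theorem sv_monomial {m : ℕ} (hσ : SigmaSpec m σ) (g : GL chevG2.Idx K) (hg : g ∈ chevG2.monomialSubgroup K) :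
    g ∈ chevG2.group K ∧ sv σ g ∈ chevG2.monomialSubgroup K := by
  have e : chevG2.monomialSubgroup K = Subgroup.closure ((chevG2.diagonalSubgroup K : Set (GL chevG2.Idx K)) ∪
      {g | ∃ r : ℕ, r < chevG2.nroots ∧ (g : Matrix chevG2.Idx chevG2.Idx K) = chevG2.nMat K r 1}) := by
    rw [Subgroup.closure_union, Subgroup.closure_eq]
    rfl
  rw [e] at hg
  apply sv_closure _ _ _ g hg
  rintro x (hx | ⟨r, hr, hx⟩)
  · obtain ⟨h1, h2⟩ := sv_diagonal hσ x hx
    exact ⟨h1, diagonalSubgroup_le_monomialSubgroup chevG2 h2⟩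
  · have e : x = wordGL chevG2 K (chevG2.nWord r 1) := Units.ext (by rw [hx, nWordGL_val chevG2 hG2])
    rw [e, sv_nGL hσ r hr, one_pow]
    exact ⟨nGL_mem_group _ _, nGL_mem_monomialSubgroup chevG2 hG2 _ (rho_lt r hr)⟩

theorem sv_borel {m : ℕ} (hσ : SigmaSpec m σ) (g : GL chevG2.Idx K) (hg : g ∈ chevG2.borelSubgroup K) :
    g ∈ chevG2.group K ∧ sv σ g ∈ chevG2.borelSubgroup K := by
  have e : chevG2.borelSubgroup K = Subgroup.closure ((chevG2.posUnipotent K : Set (GL chevG2.Idx K)) ∪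
      (chevG2.diagonalSubgroup K : Set (GL chevG2.Idx K))) := by
    rw [Subgroup.closure_union, Subgroup.closure_eq, Subgroup.closure_eq]
    rfl
  rw [e] at hg
  apply sv_closure _ _ _ g hg
  rintro x (hx | hx)
  · obtain ⟨h1, h2⟩ := sv_posUnipotent hσ x hx
    exact ⟨h1, Subgroup.mem_sup_left h2⟩
  · obtain ⟨h1, h2⟩ := sv_diagonal hσ x hx
    exact ⟨h1, Subgroup.mem_sup_right h2⟩

end Cfsg.Agent.Helper18.Ree
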