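import Cfsg.Agent.Helper18.Ree.Order

/-!
The Sylow `3`-subgroups of `²G₂(3^(2m+1))` intersect trivially, given the order of the torus.
-/

set_option autoImplicit false
set_option maxRecDepth 100000

namespace Cfsg.Agent.Helper18.Ree

open Cfsg Cfsg.Lie Cfsg.Agent.Helper18

variable {K : Type*} [Field K] {σ : ↥(chevG2.group K) ≃* ↥(chevG2.group K)}

/-- `B` normalises `U` -/
theorem borel_conj_pos (b u : GL chevG2.Idx K) (hb : b ∈ chevG2.borelSubgroup K) (hu : u ∈ chevG2.posUnipotent K) :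
    b * u * b⁻¹ ∈ chevG2.posUnipotent K := by
  obtain ⟨u', hu', h, hh, rfl⟩ := borel_decomp' b hb
  have hle := (Cfsg.Agent.S1036.result (F := K) chevG2 hG2).1
  have h1 := (Subgroup.mem_normalizer_iff.mp (hle hh) u).mp hu
  have : u' * h * u * (u' * h)⁻¹ = u' * (h * u * h⁻¹) * u'⁻¹ := by group
  rw [this]
  exact mul_mem (mul_mem hu' h1) (inv_mem hu')

theorem pos_inf_neg : chevG2.posUnipotent K ⊓ chevG2.negUnipotent K = ⊥ := by
  rw [eq_bot_iff, ← borel_inf_neg (K := K)]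
  exact inf_le_inf_right _ (posUnipotent_le_borel (F := K) chevG2 hG2)

/-- `U¹` meets its conjugates outside `B¹` trivially -/
theorem ti_aux [Fintype K] {m : ℕ} (hK : Fintype.card K = 3 ^ (2 * m + 1)) [CharP K 3] (hσ : SigmaSpec m σ)
    (w y : GL chevG2.Idx K) (hw : w ∈ twistedG2 K (3 ^ m)) (hy : y ∈ chevG2.posUnipotent K)
    (hwy : w⁻¹ * y * w ∈ chevG2.posUnipotent K) : y = 1 ∨ w ∈ chevG2.borelSubgroup K := by
  rcases G1_cases hK hσ w hw with h | ⟨u₂, hu₂, n₁, hn₁, hθ₁, u₁, hu₁, e⟩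
  · exact Or.inr h
  · left
    have hn₁inv : thetaG2 n₁⁻¹ = w0G2 := by rw [map_inv, hθ₁, w0G2_inv]
    have h1 : u₂⁻¹ * y * u₂ ∈ chevG2.posUnipotent K := mul_mem (mul_mem (inv_mem hu₂.1) hy) hu₂.1
    have h2 := theta_w0_conj n₁⁻¹ hn₁inv _ h1
    have h3 : ((n₁⁻¹ : ↥(chevG2.monomialSubgroup K)) : GL chevG2.Idx K) * (u₂⁻¹ * y * u₂) *
        ((n₁⁻¹ : ↥(chevG2.monomialSubgroup K)) : GL chevG2.Idx K)⁻¹ = u₁ * (w⁻¹ * y * w) * u₁⁻¹ := by
      rw [Subgroup.coe_inv, e]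
      group
    have h4 : u₁ * (w⁻¹ * y * w) * u₁⁻¹ ∈ chevG2.posUnipotent K ⊓ chevG2.negUnipotent K :=
      Subgroup.mem_inf.mpr ⟨mul_mem (mul_mem hu₁.1 hwy) (inv_mem hu₁.1), by rw [← h3]; exact h2⟩
    rw [pos_inf_neg, Subgroup.mem_bot] at h4
    have h5 : w⁻¹ * y * w = 1 := by
      have : w⁻¹ * y * w = u₁⁻¹ * (u₁ * (w⁻¹ * y * w) * u₁⁻¹) * u₁ := by group
      rw [this, h4]
      group
    have : y = w * (w⁻¹ * y * w) * w⁻¹ := by group
    rw [this, h5]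
    group

theorem not_three_dvd_aux (m : ℕ) : ¬ 3 ∣ (3 ^ (2 * m + 1) - 1) * ((3 ^ (2 * m + 1)) ^ 3 + 1) := by
  have h1 : 3 ∣ 3 ^ (2 * m + 1) := dvd_pow_self 3 (by omega)
  obtain ⟨c, hc⟩ := h1
  have hc1 : 1 ≤ c := by
    rcases Nat.eq_zero_or_pos c with h | h
    · rw [h] at hc; simp at hc
    · exact h
  rw [hc]
  intro h
  rcases (Nat.Prime.dvd_mul Nat.prime_three).mp h with h | h
  · omega
  · have : (3 * c) ^ 3 = 3 * (9 * c ^ 3) := by ring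
    rw [this] at h
    omega

/-- distinct Sylow `3`-subgroups of `²G₂(q)` meet trivially -/
theorem sylow3_ti_of_torus [Fintype K] {m : ℕ} (hK : Fintype.card K = 3 ^ (2 * m + 1))
    (hH : Nat.card ↥(chevG2.diagonalSubgroup K ⊓ twistedG2 K (3 ^ m)) = 3 ^ (2 * m + 1) - 1)
    (P Q : Sylow 3 ↥(twistedG2 K (3 ^ m))) (hPQ : P ≠ Q) :
    (P : Subgroup ↥(twistedG2 K (3 ^ m))) ⊓ (Q : Subgroup ↥(twistedG2 K (3 ^ m))) = ⊥ := by
  classical
  have := charP_three hK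
  have : Fact (Nat.Prime 3) := ⟨Nat.prime_three⟩
  obtain ⟨σ, hσ'⟩ := exists_sigma hK
  have hσ : SigmaSpec m σ := hσ'
  have hfin : Finite ↥(twistedG2 K (3 ^ m)) := inferInstance
  have hcard := card_ree_of_torus hK hH
  obtain ⟨U1, hU1⟩ : ∃ U1 : Subgroup ↥(twistedG2 K (3 ^ m)),
      U1 = (chevG2.posUnipotent K ⊓ twistedG2 K (3 ^ m)).subgroupOf (twistedG2 K (3 ^ m)) := ⟨_, rfl⟩
  have memU1 : ∀ x : ↥(twistedG2 K (3 ^ m)), x ∈ U1 ↔ (x : GL chevG2.Idx K) ∈ chevG2.posUnipotent K := by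
    intro x
    rw [hU1, Subgroup.mem_subgroupOf, Subgroup.mem_inf]
    exact ⟨fun h => h.1, fun h => ⟨h, x.2⟩⟩
  have hcardU1 : Nat.card U1 = (3 ^ (2 * m + 1)) ^ 3 := by
    rw [hU1, Nat.card_congr (Subgroup.subgroupOfEquivOfLe (inf_le_right :
      chevG2.posUnipotent K ⊓ twistedG2 K (3 ^ m) ≤ twistedG2 K (3 ^ m))).toEquiv]
    exact (Cfsg.Agent.S1101.result hK).2
  have hU1p : IsPGroup 3 U1 := IsPGroup.of_card (n := (2 * m + 1) * 3) (by rw [hcardU1, pow_mul])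
  obtain ⟨S, hS⟩ := hU1p.exists_le_sylow
  have hSU : (S : Subgroup ↥(twistedG2 K (3 ^ m))) = U1 := by
    symm
    apply Subgroup.eq_of_le_of_card_ge hS
    obtain ⟨k, hk⟩ := IsPGroup.iff_card.mp S.2
    have h1 : Nat.card (S : Subgroup ↥(twistedG2 K (3 ^ m))) ∣ Nat.card ↥(twistedG2 K (3 ^ m)) :=
      Subgroup.card_subgroup_dvd_card _
    rw [hcard, mul_assoc] at h1
    have hcop : Nat.Coprime (Nat.card (S : Subgroup ↥(twistedG2 K (3 ^ m))))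
        ((3 ^ (2 * m + 1) - 1) * ((3 ^ (2 * m + 1)) ^ 3 + 1)) := by
      rw [hk]
      apply Nat.Coprime.pow_left
      rw [Nat.Prime.coprime_iff_not_dvd Nat.prime_three]
      exact not_three_dvd_aux m
    have h2 := hcop.dvd_of_dvd_mul_right h1
    rw [hcardU1]
    exact Nat.le_of_dvd (by positivity) h2
  -- both Sylow subgroups are conjugates of `U¹`
  obtain ⟨g, hg⟩ := MulAction.exists_smul_eq ↥(twistedG2 K (3 ^ m)) S P
  obtain ⟨g', hg'⟩ := MulAction.exists_smul_eq ↥(twistedG2 K (3 ^ m)) S Q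
  have memP : ∀ x : ↥(twistedG2 K (3 ^ m)), x ∈ (P : Subgroup ↥(twistedG2 K (3 ^ m))) ↔ g⁻¹ * x * g ∈ U1 := by
    intro x
    rw [← hg, Sylow.coe_subgroup_smul, Subgroup.mem_pointwise_smul_iff_inv_smul_mem, MulAut.smul_def, hSU,
      MulAut.conj_inv_apply]
  have memQ : ∀ x : ↥(twistedG2 K (3 ^ m)), x ∈ (Q : Subgroup ↥(twistedG2 K (3 ^ m))) ↔ g'⁻¹ * x * g' ∈ U1 := by
    intro x
    rw [← hg', Sylow.coe_subgroup_smul, Subgroup.mem_pointwise_smul_iff_inv_smul_mem, MulAut.smul_def, hSU,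
      MulAut.conj_inv_apply]
  rw [eq_bot_iff]
  intro x hx
  rw [Subgroup.mem_inf, memP, memQ, memU1, memU1] at hx
  obtain ⟨hx1, hx2⟩ := hx
  rw [Subgroup.mem_bot]
  -- `w = g⁻¹ g'`
  have hw : ((g⁻¹ * g' : ↥(twistedG2 K (3 ^ m))) : GL chevG2.Idx K) ∈ twistedG2 K (3 ^ m) := (g⁻¹ * g').2
  have hwy : ((g⁻¹ * g' : ↥(twistedG2 K (3 ^ m))) : GL chevG2.Idx K)⁻¹ *
      ((g⁻¹ * x * g : ↥(twistedG2 K (3 ^ m))) : GL chevG2.Idx K) *
      ((g⁻¹ * g' : ↥(twistedG2 K (3 ^ m))) : GL chevG2.Idx K) ∈ chevG2.posUnipotent K := by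
    have : ((g⁻¹ * g' : ↥(twistedG2 K (3 ^ m))) : GL chevG2.Idx K)⁻¹ *
      ((g⁻¹ * x * g : ↥(twistedG2 K (3 ^ m))) : GL chevG2.Idx K) *
      ((g⁻¹ * g' : ↥(twistedG2 K (3 ^ m))) : GL chevG2.Idx K) =
        ((g'⁻¹ * x * g' : ↥(twistedG2 K (3 ^ m))) : GL chevG2.Idx K) := by
      simp only [Subgroup.coe_mul, Subgroup.coe_inv]
      group
    rw [this]
    exact hx2
  rcases ti_aux hK hσ _ _ hw hx1 hwy with h | h
  · have h1 : g⁻¹ * x * g = 1 := Subtype.ext h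
    have : x = g * (g⁻¹ * x * g) * g⁻¹ := by group
    rw [this, h1]
    group
  · exfalso
    apply hPQ
    rw [← hg, ← hg']
    have hnorm : g⁻¹ * g' ∈ Subgroup.normalizer ((S : Subgroup ↥(twistedG2 K (3 ^ m))) :
        Set ↥(twistedG2 K (3 ^ m))) := by
      rw [hSU, Subgroup.mem_normalizer_iff]
      intro n
      rw [memU1, memU1]
      constructor
      · intro hn
        exact borel_conj_pos _ _ h hn
      · intro hn
        have h2 := borel_conj_pos _ _ (inv_mem h) hn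
        have : (((g⁻¹ * g' : ↥(twistedG2 K (3 ^ m))) : GL chevG2.Idx K))⁻¹ *
            ((g⁻¹ * g' * n * (g⁻¹ * g')⁻¹ : ↥(twistedG2 K (3 ^ m))) : GL chevG2.Idx K) *
            (((g⁻¹ * g' : ↥(twistedG2 K (3 ^ m))) : GL chevG2.Idx K))⁻¹⁻¹ = (n : GL chevG2.Idx K) := by
          simp only [Subgroup.coe_mul, Subgroup.coe_inv]
          group
        rw [this] at h2
        exact h2
    have h3 := Sylow.smul_eq_iff_mem_normalizer.mpr hnorm
    have : g' • S = g • ((g⁻¹ * g') • S) := by rw [← mul_smul, mul_inv_cancel_left]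
    rw [this, h3]

end Cfsg.Agent.Helper18.Ree
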