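import Cfsg.Agent.Helper18.Ree.TorusOrder
import Cfsg.Agent.Helper18.Ree.Sylow3
import Cfsg.Agent.Helper18.Ree.Perfect

/-!
The kernel of `SL₂(q) → ²G₂(q)` consists of diagonal matrices.
-/

set_option autoImplicit false
set_option maxRecDepth 100000

namespace Cfsg.Agent.Helper18.Ree

open Cfsg Cfsg.Lie Cfsg.Agent.Helper18 Cfsg.Agent.Helper40.SL2Hom

variable {K : Type*} [Field K]

theorem nfGL_8_10 (c e : K) : nfGL 0 0 c 0 e 0 = xGL chevG2 K 8 c * xGL chevG2 K 10 e := by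
  unfold nfGL
  rw [xGL_zero' chevG2 hG2, xGL_zero' chevG2 hG2, xGL_zero' chevG2 hG2, xGL_zero' chevG2 hG2]
  simp only [one_mul, mul_one]

variable [CharP K 3]

theorem XL_eq_one (m : ℕ) (t : K) (h : XL m t = 1) : t = 0 := by
  have h1 : nfGL 0 0 (frobPow K m t) 0 t 0 = nfGL (0 : K) 0 0 0 0 0 := by
    rw [nfGL_8_10, nfGL_8_10, xGL_zero' chevG2 hG2, xGL_zero' chevG2 hG2, one_mul]
    exact h
  exact (nfGL_injective _ _ _ _ _ _ _ _ _ _ _ _ h1).2.2.2.2.1

theorem XL_mem_pos (m : ℕ) (t : K) : XL m t ∈ chevG2.posUnipotent K := by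
  unfold XL
  exact mul_mem (xGL_mem_posUnipotent 8 (by omega) _) (xGL_mem_posUnipotent 10 (by omega) _)

theorem YL_mem_neg (m : ℕ) (t : K) : YL m t ∈ chevG2.negUnipotent K := by
  rw [YL_eq_wV]
  exact wV_mem_negUnipotent _ _ _ _

theorem psiL_apply (m : ℕ) (g : Matrix.SpecialLinearGroup (Fin 2) K) :
    psiL K m g = phi (XL (K := K) m) (YL (K := K) m) (g 0 0) (g 0 1) (g 1 0) (g 1 1) := rfl

/-- elements of the kernel of `ψ` are diagonal -/
theorem psiL_ker_diag (m : ℕ) (g : Matrix.SpecialLinearGroup (Fin 2) K) (hg : psiL K m g = 1) :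
    g 1 0 = 0 ∧ g 0 1 = 0 := by
  have R := relL (K := K) m
  have hdet := sl2_det g
  rw [psiL_apply] at hg
  unfold phi at hg
  by_cases hc : g 1 0 = 0
  · refine ⟨hc, ?_⟩
    rw [if_pos hc] at hg
    have ha : g 0 0 ≠ 0 := by
      intro h0
      rw [h0, hc] at hdet
      simp at hdet
    have h1 : XL m (g 0 0 * g 0 1) * hL m (g 0 0) = 1 * 1 := by
      rw [one_mul]
      exact hg
    have h2 := (uh_unique (XL_mem_pos m _) (one_mem _) (hL_mem_diag m _ ha) (one_mem _) h1).1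
    have h3 := XL_eq_one m _ h2
    rcases mul_eq_zero.mp h3 with h | h
    · exact absurd h ha
    · exact h
  · exfalso
    rw [if_neg hc] at hg
    set n := w (XL (K := K) m) (YL (K := K) m) 1 with hn
    have hcinv : -(g 1 0)⁻¹ ≠ 0 := neg_ne_zero.mpr (inv_ne_zero hc)
    -- `n` lies in the Borel subgroup
    have hnB : n ∈ chevG2.borelSubgroup K := by
      have e : n = (XL m (g 0 0 / g 1 0) * hL m (-(g 1 0)⁻¹))⁻¹ * (XL m (g 1 1 / g 1 0))⁻¹ := by
        have h1 : XL m (g 0 0 / g 1 0) * hL m (-(g 1 0)⁻¹) * n * XL m (g 1 1 / g 1 0) = 1 := hg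
        have h2 : XL m (g 0 0 / g 1 0) * hL m (-(g 1 0)⁻¹) * n = (XL m (g 1 1 / g 1 0))⁻¹ :=
          eq_inv_of_mul_eq_one_left h1
        rw [← h2]
        group
      rw [e]
      have hX : ∀ t, XL (K := K) m t ∈ chevG2.borelSubgroup K :=
        fun t => posUnipotent_le_borel chevG2 hG2 (XL_mem_pos m t)
      exact mul_mem (inv_mem (mul_mem (hX _) (diagonal_le_borel chevG2 hG2 (hL_mem_diag m _ hcinv)))) (inv_mem (hX _))
    -- hence so does `Y(-1)`
    have h1 := R.conj 1 1 one_ne_zero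
    have e1 : -((1 : K)⁻¹ * 1⁻¹ * 1) = -1 := by simp
    rw [e1] at h1
    have h2 : YL m (-1 : K) ∈ chevG2.borelSubgroup K ⊓ chevG2.negUnipotent K := by
      refine Subgroup.mem_inf.mpr ⟨?_, YL_mem_neg m _⟩
      rw [← h1]
      exact mul_mem (mul_mem hnB (posUnipotent_le_borel chevG2 hG2 (XL_mem_pos m (1 : K)))) (inv_mem hnB)
    rw [borel_inf_neg, Subgroup.mem_bot] at h2
    rw [h2] at h1
    have h3 : XL m (1 : K) = 1 := by
      have : XL m (1 : K) = n⁻¹ * (n * XL m 1 * n⁻¹) * n := by group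
      rw [this, h1]
      group
    exact one_ne_zero (XL_eq_one m _ h3)

end Cfsg.Agent.Helper18.Ree
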