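import Cfsg.Agent.Helper18.Ree.SylowP1
import Cfsg.Agent.Helper18.LinPRank
import Cfsg.Agent.Helper18.SylowTransfer
import Cfsg.Agent.Helper50.CyclicSylow
import Cfsg.Agent.Helper5.Card

/-!
Sylow `p`-subgroups of `²G₂(q)` for `p ∣ q + 1`, `p > 3`: cyclic, through `SL₂(q)`.
-/

set_option autoImplicit false
set_option maxRecDepth 100000

namespace Cfsg.Agent.Helper18.Ree

open Cfsg Cfsg.Lie Cfsg.Agent.Helper18 Cfsg.Agent.Helper40.SL2Hom

variable {K : Type*} [Field K]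

/-- the diagonal matrices of `SL₂` -/
def dSL (a : Kˣ) : Matrix.SpecialLinearGroup (Fin 2) K :=
  ⟨!![(a : K), 0; 0, ((a⁻¹ : Kˣ) : K)], by simp [Matrix.det_fin_two]⟩

theorem dSL_coe (a : Kˣ) :
    ((dSL a : Matrix.SpecialLinearGroup (Fin 2) K) : Matrix (Fin 2) (Fin 2) K) = !![(a : K), 0; 0, ((a⁻¹ : Kˣ) : K)] :=
  rfl

/-- the diagonal torus of `SL₂` -/
def dSLHom (K : Type*) [Field K] : Kˣ →* Matrix.SpecialLinearGroup (Fin 2) K where
  toFun a := dSL a
  map_one' := by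
    apply sl2_ext <;> simp [dSL_coe]
  map_mul' a b := by
    apply sl2_ext <;>
    · simp only [Matrix.SpecialLinearGroup.coe_mul, dSL_coe]
      simp [Matrix.mul_apply, Fin.sum_univ_two, mul_comm]

theorem dSLHom_coe (a : Kˣ) :
    ((dSLHom K a : Matrix.SpecialLinearGroup (Fin 2) K) : Matrix (Fin 2) (Fin 2) K) =
      !![(a : K), 0; 0, ((a⁻¹ : Kˣ) : K)] :=
  rfl

theorem eq_dSLHom (g : Matrix.SpecialLinearGroup (Fin 2) K) (h10 : g 1 0 = 0) (h01 : g 0 1 = 0) :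
    ∃ a : Kˣ, g = dSLHom K a := by
  have hdet := sl2_det g
  rw [h10, h01, mul_zero, sub_zero] at hdet
  have ha : g 0 0 ≠ 0 := left_ne_zero_of_mul_eq_one hdet
  refine ⟨Units.mk0 (g 0 0) ha, ?_⟩
  apply sl2_ext
  · simp [dSLHom_coe]
  · simp [dSLHom_coe, h01]
  · simp [dSLHom_coe, h10]
  · have : g 1 1 = (g 0 0)⁻¹ := eq_inv_of_mul_eq_one_right hdet
    simp [dSLHom_coe, this]

theorem dSLHom_pow_card [Fintype K] (a : Kˣ) : dSLHom K a ^ (Fintype.card K - 1) = 1 := by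
  classical
  rw [← map_pow, ← Fintype.card_units, pow_card_eq_one, map_one]

/-- the inclusion of `SL₂` in the matrices -/
def slCoe (K : Type*) [Field K] : Matrix.SpecialLinearGroup (Fin 2) K →* Matrix (Fin 2) (Fin 2) K where
  toFun g := (g : Matrix (Fin 2) (Fin 2) K)
  map_one' := Matrix.SpecialLinearGroup.coe_one
  map_mul' := Matrix.SpecialLinearGroup.coe_mul

theorem slCoe_injective : Function.Injective (slCoe K) := fun _ _ h => Subtype.ext h

/-- `SL₂(q)` has `p`-rank at most one when `p` divides neither `q` nor `q - 1` -/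
theorem pRankLE_SL2 [Fintype K] {p : ℕ} [Fact p.Prime] (hq : ((Fintype.card K : ℕ) : ZMod p) ≠ 0)
    (hpK : ((p : ℕ) : K) ≠ 0) (h1 : ((Fintype.card K : ℕ) : ZMod p) ≠ 1) :
    Cfsg.PRankLE p 1 (Matrix.SpecialLinearGroup (Fin 2) K) := by
  intro A hA hexp
  rw [pow_one]
  apply LinPRank.card_le_of_matrix ((slCoe K).comp A.subtype)
    (slCoe_injective.comp A.subtype_injective) (fun a b => hA.is_comm.comm a b)
    (fun a => Subtype.ext (hexp a.1 a.2)) hq hpK (d := 2)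
  · intro i hi0 hi2
    have : i = 1 := by omega
    rw [this, pow_one]
    exact h1
  · simp

theorem sylow_SL2_cyclic [Fintype K] {p : ℕ} [Fact p.Prime] (hp2 : p ≠ 2)
    (hq : ((Fintype.card K : ℕ) : ZMod p) ≠ 0)
    (hpK : ((p : ℕ) : K) ≠ 0) (h1 : ((Fintype.card K : ℕ) : ZMod p) ≠ 1)
    (P : Sylow p (Matrix.SpecialLinearGroup (Fin 2) K)) :
    IsCyclic ↥(P : Subgroup (Matrix.SpecialLinearGroup (Fin 2) K)) :=
  Cfsg.Agent.Helper50.sylow_isCyclic_of_pRankLE_one hp2 (pRankLE_SL2 hq hpK h1) P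

theorem card_SL2 [Fintype K] :
    Nat.card (Matrix.SpecialLinearGroup (Fin 2) K) = Fintype.card K * (Fintype.card K ^ 2 - 1) := by
  have h1 := Cfsg.Agent.Helper5.card_GL_eq_card_SL_mul (n := Fin 2) (F := K)
  rw [Matrix.card_GL_field] at h1
  have hq : 2 ≤ Fintype.card K := Fintype.one_lt_card
  obtain ⟨n, hn⟩ : ∃ n, Fintype.card K = n + 2 := ⟨Fintype.card K - 2, by omega⟩
  rw [hn] at h1 ⊢
  simp only [Fin.prod_univ_two, Fin.val_zero, Fin.val_one, pow_zero, pow_one] at h1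
  have e1 : (n + 2) ^ 2 - 1 = (n + 1) * (n + 3) := by
    have : (n + 2) ^ 2 = (n + 1) * (n + 3) + 1 := by ring
    omega
  have e2 : (n + 2) ^ 2 - (n + 2) = (n + 2) * (n + 1) := by
    have : (n + 2) ^ 2 = (n + 2) * (n + 1) + (n + 2) := by ring
    omega
  have e3 : n + 2 - 1 = n + 1 := by omega
  rw [e1, e2, e3] at h1
  rw [e1]
  have h2 : Nat.card (Matrix.SpecialLinearGroup (Fin 2) K) * (n + 1) = (n + 2) * ((n + 1) * (n + 3)) * (n + 1) := by
    rw [← h1]
    ring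
  exact Nat.eq_of_mul_eq_mul_right (Nat.succ_pos n) h2

variable [CharP K 3]

/-- `ψ` is injective on elements of order prime to `q - 1` -/
theorem psiL_eq_one [Fintype K] (m : ℕ) (g : Matrix.SpecialLinearGroup (Fin 2) K) (hg : psiL K m g = 1)
    (hco : Nat.Coprime (orderOf g) (Fintype.card K - 1)) : g = 1 := by
  obtain ⟨h10, h01⟩ := psiL_ker_diag m g hg
  obtain ⟨a, rfl⟩ := eq_dSLHom g h10 h01
  have h1 : orderOf (dSLHom K a) ∣ Fintype.card K - 1 := orderOf_dvd_of_pow_eq_one (dSLHom_pow_card a)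
  have h2 : orderOf (dSLHom K a) = 1 := Nat.Coprime.eq_one_of_dvd hco h1
  exact orderOf_eq_one_iff.mp h2

end Cfsg.Agent.Helper18.Ree
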