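import Cfsg.Agent.Helper18.Ree.SylowP2

/-!
Sylow `p`-subgroups of `²G₂(q)` for `p ∣ q + 1` and `p ∣ q - 1`, `p > 3`: cyclic.
-/

set_option autoImplicit false
set_option maxRecDepth 100000

namespace Cfsg.Agent.Helper18.Ree

open Cfsg Cfsg.Lie Cfsg.Agent.Helper18 Cfsg.Agent.Helper40.SL2Hom

variable {K : Type*} [Field K]

/-- small numbers are non-zero modulo a larger prime -/
theorem natCast_zmod_ne_zero {p k : ℕ} (hk0 : 0 < k) (hkp : k < p) : ((k : ℕ) : ZMod p) ≠ 0 := by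
  rw [Ne, ZMod.natCast_eq_zero_iff]
  exact Nat.not_dvd_of_pos_of_lt hk0 hkp

theorem prime_natCast_ne_zero [CharP K 3] {p : ℕ} (hpp : p.Prime) (hp : 3 < p) : ((p : ℕ) : K) ≠ 0 := by
  intro h
  have h1 := (CharP.cast_eq_zero_iff K 3 p).mp h
  have h2 := (Nat.prime_dvd_prime_iff_eq Nat.prime_three hpp).mp h1
  omega

/-- the order of `²G₂(q)`, with `q = n + 1` -/
theorem card_ree_succ [Fintype K] {m n : ℕ} (hK : Fintype.card K = 3 ^ (2 * m + 1)) (hn : 3 ^ (2 * m + 1) = n + 1) :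
    Nat.card ↥(twistedG2 K (3 ^ m)) = (n + 1) ^ 3 * n * (n + 2) * ((n + 1) * n + 1) := by
  have hchar : CharP K 3 := charP_three hK
  rw [card_ree_of_torus hK (card_torus_ree hK), hn]
  have e1 : n + 1 - 1 = n := by omega
  rw [e1]
  ring

theorem sylow_cyclic_of_dvd_add_one [Fintype K] {m : ℕ} (hK : Fintype.card K = 3 ^ (2 * m + 1))
    {p : ℕ} [hpp : Fact p.Prime] (hp : 3 < p) (hdvd : p ∣ 3 ^ (2 * m + 1) + 1)
    (P : Sylow p ↥(twistedG2 K (3 ^ m))) : IsCyclic ↥(P : Subgroup ↥(twistedG2 K (3 ^ m))) := by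
  have hchar : CharP K 3 := charP_three hK
  obtain ⟨n, hn⟩ : ∃ n, 3 ^ (2 * m + 1) = n + 1 := ⟨3 ^ (2 * m + 1) - 1, (Nat.sub_add_cancel (Nat.one_le_pow _ _ (by norm_num))).symm⟩
  have hcardK : Fintype.card K = n + 1 := by rw [hK, hn]
  -- arithmetic modulo `p`
  have hq : ((n + 1 : ℕ) : ZMod p) = -1 := by
    have h1 : ((n + 1 + 1 : ℕ) : ZMod p) = 0 := by
      rw [ZMod.natCast_eq_zero_iff, ← hn]
      exact hdvd
    rw [Nat.cast_add (n + 1) 1, Nat.cast_one] at h1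
    exact eq_neg_of_add_eq_zero_left h1
  have h2ne : ((2 : ℕ) : ZMod p) ≠ 0 := natCast_zmod_ne_zero (by omega) (by omega)
  have h3ne : ((3 : ℕ) : ZMod p) ≠ 0 := natCast_zmod_ne_zero (by omega) (by omega)
  have hq0 : ((Fintype.card K : ℕ) : ZMod p) ≠ 0 := by
    rw [hcardK, hq]
    exact neg_ne_zero.mpr one_ne_zero
  have hq1 : ((Fintype.card K : ℕ) : ZMod p) ≠ 1 := by
    rw [hcardK, hq]
    intro h
    apply h2ne
    have : ((2 : ℕ) : ZMod p) = 1 + 1 := by norm_num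
    rw [this]
    linear_combination -h
  have hnn : ((n : ℕ) : ZMod p) = -2 := by
    rw [Nat.cast_add, Nat.cast_one] at hq
    linear_combination hq
  have hpK : ((p : ℕ) : K) ≠ 0 := prime_natCast_ne_zero hpp.out hp
  have hcop : Nat.Coprime p (Fintype.card K - 1) := by
    rw [hcardK, Nat.add_sub_cancel]
    apply (Nat.Prime.coprime_iff_not_dvd hpp.out).mpr
    rw [← ZMod.natCast_eq_zero_iff, hnn]
    intro h
    apply h2ne
    have : ((2 : ℕ) : ZMod p) = 2 := by norm_num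
    rw [this]
    linear_combination -h
  -- the Sylow subgroup of `SL₂`
  let ψ' : Matrix.SpecialLinearGroup (Fin 2) K →* ↥(twistedG2 K (3 ^ m)) :=
    (psiL K m).codRestrict _ (fun g => psiL_range_le m ⟨g, rfl⟩)
  obtain ⟨P₂⟩ : Nonempty (Sylow p (Matrix.SpecialLinearGroup (Fin 2) K)) := inferInstance
  have hP₂c := sylow_SL2_cyclic (by omega) hq0 hpK hq1 P₂
  let f : ↥(P₂ : Subgroup (Matrix.SpecialLinearGroup (Fin 2) K)) →* ↥(twistedG2 K (3 ^ m)) :=
    ψ'.comp (P₂ : Subgroup (Matrix.SpecialLinearGroup (Fin 2) K)).subtype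
  have hf : Function.Injective f := by
    rw [injective_iff_map_eq_one]
    intro g hg
    have h1 : psiL K m g.1 = 1 := congrArg Subtype.val hg
    obtain ⟨k, hk⟩ := P₂.isPGroup' g
    have hk' : g.1 ^ p ^ k = 1 := by
      have := congrArg Subtype.val hk
      simpa using this
    have h2 : orderOf g.1 ∣ p ^ k := orderOf_dvd_of_pow_eq_one hk'
    have h3 : Nat.Coprime (orderOf g.1) (Fintype.card K - 1) :=
      Nat.Coprime.coprime_dvd_left h2 (Nat.Coprime.pow_left k hcop)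
    exact Subtype.ext (psiL_eq_one m g.1 h1 h3)
  have hCc : IsCyclic ↥f.range := (MonoidHom.ofInjective hf).isCyclic.mp hP₂c
  have hCcard : Nat.card ↥f.range = Nat.card ↥(P₂ : Subgroup (Matrix.SpecialLinearGroup (Fin 2) K)) :=
    (Nat.card_congr (MonoidHom.ofInjective hf).toEquiv).symm
  apply SylowTransfer.sylow_isCyclic_of_cyclic_subgroup f.range hCc _ P
  intro hpi
  have h1 := f.range.card_mul_index
  have h2 := (P₂ : Subgroup (Matrix.SpecialLinearGroup (Fin 2) K)).card_mul_index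
  have h3 := card_SL2 (K := K)
  rw [hcardK] at h3
  have e1 : (n + 1) ^ 2 - 1 = n * (n + 2) := by
    have : (n + 1) ^ 2 = n * (n + 2) + 1 := by ring
    omega
  rw [e1] at h3
  have h4 := card_ree_succ hK hn
  rw [hCcard] at h1
  have hpos : 0 < Nat.card ↥(P₂ : Subgroup (Matrix.SpecialLinearGroup (Fin 2) K)) := Nat.card_pos
  have h5 : f.range.index = (P₂ : Subgroup (Matrix.SpecialLinearGroup (Fin 2) K)).index *
      ((n + 1) ^ 2 * ((n + 1) * n + 1)) := by
    apply Nat.eq_of_mul_eq_mul_left hpos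
    rw [h1, h4, ← mul_assoc, h2, h3]
    ring
  rw [h5] at hpi
  rcases (Nat.Prime.dvd_mul hpp.out).mp hpi with h | h
  · exact P₂.not_dvd_index h
  · rcases (Nat.Prime.dvd_mul hpp.out).mp h with h | h
    · have h6 := Nat.Prime.dvd_of_dvd_pow hpp.out h
      rw [← ZMod.natCast_eq_zero_iff, hq] at h6
      exact neg_ne_zero.mpr one_ne_zero h6
    · rw [← ZMod.natCast_eq_zero_iff] at h
      have h7 : (((n + 1) * n + 1 : ℕ) : ZMod p) = ((3 : ℕ) : ZMod p) := by
        push_cast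
        rw [hnn]
        ring
      rw [h7] at h
      exact h3ne h

theorem sylow_cyclic_of_dvd_sub_one [Fintype K] {m : ℕ} (hK : Fintype.card K = 3 ^ (2 * m + 1))
    {p : ℕ} [hpp : Fact p.Prime] (hp : 3 < p) (hdvd : p ∣ 3 ^ (2 * m + 1) - 1)
    (P : Sylow p ↥(twistedG2 K (3 ^ m))) : IsCyclic ↥(P : Subgroup ↥(twistedG2 K (3 ^ m))) := by
  have hchar : CharP K 3 := charP_three hK
  obtain ⟨n, hn⟩ : ∃ n, 3 ^ (2 * m + 1) = n + 1 :=
    ⟨3 ^ (2 * m + 1) - 1, (Nat.sub_add_cancel (Nat.one_le_pow _ _ (by norm_num))).symm⟩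
  have hnn : ((n : ℕ) : ZMod p) = 0 := by
    rw [ZMod.natCast_eq_zero_iff]
    rw [hn, Nat.add_sub_cancel] at hdvd
    exact hdvd
  have hn0 : 0 < n := by
    have : 3 ^ 1 ≤ 3 ^ (2 * m + 1) := Nat.pow_le_pow_right (by norm_num) (by omega)
    omega
  have h2ne : ((2 : ℕ) : ZMod p) ≠ 0 := natCast_zmod_ne_zero (by omega) (by omega)
  set C : Subgroup ↥(twistedG2 K (3 ^ m)) :=
    (chevG2.diagonalSubgroup K ⊓ twistedG2 K (3 ^ m)).subgroupOf (twistedG2 K (3 ^ m)) with hC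
  have e : ↥C ≃* ↥(chevG2.diagonalSubgroup K ⊓ twistedG2 K (3 ^ m)) :=
    Subgroup.subgroupOfEquivOfLe inf_le_right
  have hCc : IsCyclic ↥C := e.isCyclic.mpr (torus_cyclic hK)
  have hCcard : Nat.card ↥C = n := by
    rw [Nat.card_congr e.toEquiv, card_torus_ree hK, hn, Nat.add_sub_cancel]
  apply SylowTransfer.sylow_isCyclic_of_cyclic_subgroup C hCc _ P
  intro hpi
  have h1 := C.card_mul_index
  rw [hCcard, card_ree_succ hK hn] at h1
  have h5 : C.index = (n + 1) ^ 3 * ((n + 2) * ((n + 1) * n + 1)) := by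
    apply Nat.eq_of_mul_eq_mul_left hn0
    rw [h1]
    ring
  rw [h5] at hpi
  rcases (Nat.Prime.dvd_mul hpp.out).mp hpi with h | h
  · have h6 := Nat.Prime.dvd_of_dvd_pow hpp.out h
    rw [← ZMod.natCast_eq_zero_iff, Nat.cast_add, hnn, Nat.cast_one, zero_add] at h6
    exact one_ne_zero h6
  · rcases (Nat.Prime.dvd_mul hpp.out).mp h with h | h
    · rw [← ZMod.natCast_eq_zero_iff, Nat.cast_add, hnn, zero_add] at h
      exact h2ne h
    · rw [← ZMod.natCast_eq_zero_iff] at h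
      have h7 : (((n + 1) * n + 1 : ℕ) : ZMod p) = 1 := by
        push_cast
        rw [hnn]
        ring
      rw [h7] at h
      exact one_ne_zero h

end Cfsg.Agent.Helper18.Ree
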