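import Cfsg.Agent.Helper18.Ree.SylowP3
import Cfsg.Agent.Helper18.GraphAut.Types
import Cfsg.Agent.S1055

/-!
Sylow `p`-subgroups of `²G₂(q)` for `p ∣ q² - q + 1`, `p > 3`: cyclic, through the 7-dimensional constituent.
-/

set_option autoImplicit false
set_option maxRecDepth 100000

namespace Cfsg.Agent.Helper18.Ree

open Cfsg Cfsg.Lie Cfsg.Agent.Helper18 Cfsg.Agent.Helper18.GraphAut

variable {K : Type*} [Field K]

theorem twistedG2_le_group (θ : ℕ) : twistedG2 K θ ≤ chevG2.group K := by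
  unfold twistedG2 ChevalleyDatum.genSubgroup
  rw [Subgroup.closure_le]
  rintro g ⟨w, -, hg⟩
  have e : g = wordGL chevG2 K w := Units.ext (by rw [hg, wordGL_val chevG2 _ (triOK_of_mem chevG2 hG2)])
  rw [e, SetLike.mem_coe]
  unfold wordGL
  apply Subgroup.list_prod_mem
  intro x hx
  obtain ⟨p, -, rfl⟩ := List.mem_map.mp hx
  exact xGL_mem_group' chevG2 hG2 p.1 p.2

theorem card_S_G2 : Fintype.card {a : chevG2.Idx // gdG2.S chevG2 a} = 7 := by
  rw [Fintype.card_subtype]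
  decide +kernel

variable [CharP K 3]

theorem group_le_stGL : chevG2.group K ≤ stGL (gdG2.S chevG2) K := by
  have : CharP K gdG2.p := inferInstanceAs (CharP K 3)
  unfold ChevalleyDatum.group
  rw [Subgroup.closure_le]
  rintro x ⟨r, t, hx⟩
  rw [SetLike.mem_coe, mem_stGL]
  intro i j hi hj
  have hxmat : chevG2.xMat K r t = chevG2.x K r.val t := by
    unfold ChevalleyDatum.x
    rw [dif_pos r.2]
  rw [hx, hxmat]
  have hi' : gdG2.isSC chevG2 (code chevG2 i) = false := by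
    unfold GData.S at hi
    simpa using hi
  exact gdG2.f1_spec chevG2 f1OK_G2 r.val r.2 t i j hi' hj

/-- the 7-dimensional constituent of `G₂(K)` is faithful -/
theorem faithful_S_G2 (ha : ∃ a : K, a ≠ 0 ∧ a ≠ 1) :
    ∀ k ∈ chevG2.group K, (∀ i j, gdG2.S chevG2 i → gdG2.S chevG2 j →
      (k : Matrix chevG2.Idx chevG2.Idx K) i j = (1 : Matrix chevG2.Idx chevG2.Idx K) i j) → k = 1 := by
  obtain ⟨hsimple, -⟩ := Cfsg.Agent.S1055.result (F := K) ha
  obtain ⟨x1, hx1, y1, hy1, hne1⟩ := exists_wit (K := K) chevG2 hG2 ⟨7, by decide⟩ ⟨0, by decide⟩ (by decide +kernel)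
  exact faithful_S (chevG2.group K) group_le_stGL (normalHyp_of_isSimpleGroup _) x1 y1 hx1 hy1 _ _
    (by decide) (by decide) hne1

omit [CharP K 3] in
/-- `q` has order six modulo a prime `p > 3` dividing `q² - q + 1` -/
theorem order_six_aux {p : ℕ} [hpp : Fact p.Prime] (hp : 3 < p) (x : ZMod p) (h0 : x ^ 2 - x + 1 = 0) :
    x ≠ 0 ∧ ∀ i, 0 < i → i < 6 → x ^ i ≠ 1 := by
  have h2ne : (2 : ZMod p) ≠ 0 := by
    have := natCast_zmod_ne_zero (p := p) (k := 2) (by omega) (by omega)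
    simpa using this
  have h3ne : (3 : ZMod p) ≠ 0 := by
    have := natCast_zmod_ne_zero (p := p) (k := 3) (by omega) (by omega)
    simpa using this
  refine ⟨?_, ?_⟩
  · intro h
    have : (1 : ZMod p) = 0 := by linear_combination h0 - (x - 1) * h
    exact one_ne_zero this
  · intro i hi0 hi6 h
    interval_cases i
    · have : (1 : ZMod p) = 0 := by linear_combination h0 - x * h
      exact one_ne_zero this
    · have : (3 : ZMod p) = 0 := by linear_combination (1 - (x + 2)) * h + (x + 2) * h0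
      exact h3ne this
    · have : (2 : ZMod p) = 0 := by linear_combination (x + 1) * h0 - h
      exact h2ne this
    · have : (3 : ZMod p) = 0 := by linear_combination (1 - (x - 2) * x * (x + 1)) * h0 + (x - 2) * h
      exact h3ne this
    · have : (1 : ZMod p) = 0 := by
        linear_combination (1 + (x - 1) - (x - 1) * x ^ 2 * (x + 1)) * h0 + (x - 1) * h
      exact one_ne_zero this

theorem exists_ne_zero_one : ∃ a : K, a ≠ 0 ∧ a ≠ 1 := by
  have h2 : ((2 : ℕ) : K) ≠ 0 := by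
    intro h
    have := (CharP.cast_eq_zero_iff K 3 2).mp h
    omega
  refine ⟨((2 : ℕ) : K), h2, ?_⟩
  intro h
  have h3 : (1 : K) = 0 := by
    have : ((2 : ℕ) : K) = 1 + 1 := by norm_num
    rw [this] at h
    linear_combination h
  exact one_ne_zero h3

theorem pRankLE_of_dvd [Fintype K] {m n : ℕ} (hK : Fintype.card K = 3 ^ (2 * m + 1))
    (hn : 3 ^ (2 * m + 1) = n + 1) {p : ℕ} [hpp : Fact p.Prime] (hp : 3 < p) (hdvd : p ∣ (n + 1) * n + 1) :
    Cfsg.PRankLE p 1 ↥(twistedG2 K (3 ^ m)) := by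
  intro A hA hexp
  rw [pow_one]
  have hcardK : Fintype.card K = n + 1 := by rw [hK, hn]
  have h0 : ((Fintype.card K : ℕ) : ZMod p) ^ 2 - ((Fintype.card K : ℕ) : ZMod p) + 1 = 0 := by
    have h1 : (((n + 1) * n + 1 : ℕ) : ZMod p) = 0 := (ZMod.natCast_eq_zero_iff _ _).mpr hdvd
    rw [hcardK]
    push_cast at h1 ⊢
    linear_combination h1
  obtain ⟨hq0, hd⟩ := order_six_aux hp _ h0
  have hpK : ((p : ℕ) : K) ≠ 0 := prime_natCast_ne_zero hpp.out hp
  have hle : twistedG2 K (3 ^ m) ≤ stGL (gdG2.S chevG2) K := (twistedG2_le_group _).trans group_le_stGL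
  let φ : ↥A →* Matrix {a // gdG2.S chevG2 a} {a // gdG2.S chevG2 a} K :=
    (blockS (gdG2.S chevG2)).comp ((Subgroup.inclusion hle).comp A.subtype)
  have hφ : Function.Injective φ := by
    rw [injective_iff_map_eq_one]
    intro a ha
    have h1 : ((a : ↥(twistedG2 K (3 ^ m))) : GL chevG2.Idx K) = 1 := by
      apply faithful_S_G2 exists_ne_zero_one _ (twistedG2_le_group _ a.1.2)
      intro i j hi hj
      have h2 := congrFun (congrFun ha ⟨i, hi⟩) ⟨j, hj⟩
      simp only [φ, blockS, MonoidHom.comp_apply, MonoidHom.coe_mk, OneHom.coe_mk, Matrix.toBlock_apply,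
        Subgroup.coe_inclusion, Subgroup.coe_subtype] at h2
      rw [h2, Matrix.one_apply, Matrix.one_apply]
      simp [Subtype.ext_iff]
    exact Subtype.ext (Subtype.ext h1)
  apply LinPRank.card_le_of_matrix φ hφ (fun a b => hA.is_comm.comm a b)
    (fun a => Subtype.ext (hexp a.1 a.2)) hq0 hpK (d := 6) hd
  rw [card_S_G2]
  norm_num

theorem sylow_cyclic_of_dvd_third [Fintype K] {m n : ℕ} (hK : Fintype.card K = 3 ^ (2 * m + 1))
    (hn : 3 ^ (2 * m + 1) = n + 1) {p : ℕ} [hpp : Fact p.Prime] (hp : 3 < p) (hdvd : p ∣ (n + 1) * n + 1)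
    (P : Sylow p ↥(twistedG2 K (3 ^ m))) : IsCyclic ↥(P : Subgroup ↥(twistedG2 K (3 ^ m))) :=
  Cfsg.Agent.Helper50.sylow_isCyclic_of_pRankLE_one (by omega) (pRankLE_of_dvd hK hn hp hdvd) P

/-- Sylow `p`-subgroups of `²G₂(q)` are cyclic for `p > 3` -/
theorem sylow_cyclic_ree [Fintype K] {m : ℕ} (hK : Fintype.card K = 3 ^ (2 * m + 1))
    {p : ℕ} [hpp : Fact p.Prime] (hp : 3 < p)
    (P : Sylow p ↥(twistedG2 K (3 ^ m))) : IsCyclic ↥(P : Subgroup ↥(twistedG2 K (3 ^ m))) := by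
  obtain ⟨n, hn⟩ : ∃ n, 3 ^ (2 * m + 1) = n + 1 :=
    ⟨3 ^ (2 * m + 1) - 1, (Nat.sub_add_cancel (Nat.one_le_pow _ _ (by norm_num))).symm⟩
  by_cases h1 : p ∣ 3 ^ (2 * m + 1) - 1
  · exact sylow_cyclic_of_dvd_sub_one hK hp h1 P
  by_cases h2 : p ∣ 3 ^ (2 * m + 1) + 1
  · exact sylow_cyclic_of_dvd_add_one hK hp h2 P
  by_cases h3 : p ∣ (n + 1) * n + 1
  · exact sylow_cyclic_of_dvd_third hK hn hp h3 P
  apply SylowTransfer.sylow_isCyclic_of_not_dvd _ P
  rw [card_ree_succ hK hn]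
  rw [hn, Nat.add_sub_cancel] at h1
  rw [hn] at h2
  intro h
  rcases (Nat.Prime.dvd_mul hpp.out).mp h with h | h
  · rcases (Nat.Prime.dvd_mul hpp.out).mp h with h | h
    · rcases (Nat.Prime.dvd_mul hpp.out).mp h with h | h
      · have h4 := Nat.Prime.dvd_of_dvd_pow hpp.out h
        rw [← hn] at h4
        have h5 := Nat.Prime.dvd_of_dvd_pow hpp.out h4
        have h6 := (Nat.prime_dvd_prime_iff_eq hpp.out Nat.prime_three).mp h5
        omega
      · exact h1 h
    · exact h2 h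
  · exact h3 h

end Cfsg.Agent.Helper18.Ree
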