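import Cfsg.Agent.Helper18.Ree.CoreRee

/-!
`H¹ = H ∩ ²G₂` embeds in `Kˣ` via the character at the root `b`; hence it is cyclic.
-/

set_option autoImplicit false
set_option maxRecDepth 100000

namespace Cfsg.Agent.Helper18.Ree

open Cfsg Cfsg.Lie Cfsg.Agent.Helper18

variable {K : Type*} [Field K]

/-- the diagonal entry at the root `b` -/
def chiB (k : GL chevG2.Idx K) : K :=
  (k : Matrix chevG2.Idx chevG2.Idx K) (Sum.inr ⟨6, by decide⟩) (Sum.inr ⟨6, by decide⟩)

theorem chiB_of_diag (k : GL chevG2.Idx K) (χ : ℕ → K)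
    (hd : (k : Matrix chevG2.Idx chevG2.Idx K) =
      Matrix.diagonal (Sum.elim (fun _ => (1 : K)) (fun s : Fin chevG2.nroots => χ s.val))) : chiB k = χ 6 := by
  unfold chiB
  rw [hd, Matrix.diagonal_apply_eq]
  rfl

theorem chiB_one : chiB (1 : GL chevG2.Idx K) = 1 := by
  unfold chiB
  rw [Units.val_one, Matrix.one_apply_eq]

theorem chiB_mul (k k' : GL chevG2.Idx K) (hk : k ∈ chevG2.diagonalSubgroup K)
    (hk' : k' ∈ chevG2.diagonalSubgroup K) : chiB (k * k') = chiB k * chiB k' := by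
  obtain ⟨χ, -, hd, -⟩ := diagonalSubgroup_char chevG2 hG2 k hk
  obtain ⟨χ', -, hd', -⟩ := diagonalSubgroup_char chevG2 hG2 k' hk'
  rw [chiB_of_diag k χ hd, chiB_of_diag k' χ' hd']
  unfold chiB
  rw [Units.val_mul, hd, hd', Matrix.diagonal_mul_diagonal, Matrix.diagonal_apply_eq]
  rfl

/-- an element of `H` fixed by the twist with `χ_b = 1` is trivial -/
theorem diag_fix_eq_one [CharP K 3] {m : ℕ} {σ : ↥(chevG2.group K) ≃* ↥(chevG2.group K)} (hσ : SigmaSpec m σ)
    (k : GL chevG2.Idx K) (hk : k ∈ chevG2.diagonalSubgroup K) (hfix : sv σ k = k) (h6 : chiB k = 1) : k = 1 := by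
  obtain ⟨χ, hχ, hd, hc, hn⟩ := diag_char_neg chevG2 hG2 k hk
  have htri := triOK_of_mem chevG2 hG2
  have c6 : χ 6 = 1 := by rw [← chiB_of_diag k χ hd, h6]
  have hkG : k ∈ chevG2.group K := (Cfsg.Agent.S1043.result (F := K) chevG2 hG2).1 (diagonal_le_borel chevG2 hG2 hk)
  have h1 := xGL_mem_group' (F := K) chevG2 hG2
  -- χ_a = χ_b ^ θ
  have c7 : χ 7 = 1 := by
    have e := congrArg (sv σ) (hc 6 (by decide) 1)
    rw [sv_mul hkG (h1 _ _), sv_mul (h1 _ _) hkG, hfix, sv_xGL hσ 6 (by decide), sv_xGL hσ 6 (by decide),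
      c6, one_mul] at e
    have e2 := hc 7 (by decide) ((1 : K) ^ sexp m 6)
    have e3 : rho 6 = 7 := by decide
    rw [e3] at e
    rw [e] at e2
    have e4 := mul_right_cancel e2
    have e5 := congrArg (fun g : GL chevG2.Idx K => (g : Matrix chevG2.Idx chevG2.Idx K)) e4
    simp only [xGL_val chevG2 _ htri] at e5
    have e6 := x_injective chevG2 hG2 7 (by decide) _ _ e5
    rw [one_pow, mul_one] at e6
    exact e6.symm
  -- the commutator relation gives the other positive roots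
  have hg : xGL chevG2 K 6 1 * xGL chevG2 K 7 1 = xGL chevG2 K 7 1 * xGL chevG2 K 6 1 *
      (xGL chevG2 K 8 1 * xGL chevG2 K 9 1 * xGL chevG2 K 10 (-1) * xGL chevG2 K 11 (-1)) := by
    have := comm_ab_pos (K := K) 1 1
    simp only [one_pow, mul_one] at this
    exact this
  have c6' : χ 6 * 1 = 1 := by rw [c6, mul_one]
  have c7' : χ 7 * 1 = 1 := by rw [c7, mul_one]
  have e1 : k * (xGL chevG2 K 6 1 * xGL chevG2 K 7 1) = xGL chevG2 K 6 1 * xGL chevG2 K 7 1 * k := by
    have := conj_mul_aux (hc 6 (by decide) 1) (hc 7 (by decide) 1)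
    rw [c6', c7'] at this
    exact this
  have e2 : k * (xGL chevG2 K 7 1 * xGL chevG2 K 6 1 *
      (xGL chevG2 K 8 1 * xGL chevG2 K 9 1 * xGL chevG2 K 10 (-1) * xGL chevG2 K 11 (-1))) =
      xGL chevG2 K 7 1 * xGL chevG2 K 6 1 *
      (xGL chevG2 K 8 (χ 8 * 1) * xGL chevG2 K 9 (χ 9 * 1) * xGL chevG2 K 10 (χ 10 * -1) *
        xGL chevG2 K 11 (χ 11 * -1)) * k := by
    have := conj_mul_aux (conj_mul_aux (hc 7 (by decide) 1) (hc 6 (by decide) 1))
      (conj_mul_aux (conj_mul_aux (conj_mul_aux (hc 8 (by decide) 1) (hc 9 (by decide) 1))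
        (hc 10 (by decide) (-1))) (hc 11 (by decide) (-1)))
    rw [c6', c7'] at this
    exact this
  rw [← hg, e1, hg] at e2
  have e3 := mul_right_cancel e2
  have e4 := mul_left_cancel e3
  -- as normal forms
  have e5 : nfGL (0 : K) 0 1 1 (-1) (-1) = nfGL (0 : K) 0 (χ 8 * 1) (χ 9 * 1) (χ 10 * -1) (χ 11 * -1) := by
    unfold nfGL
    rw [xGL_zero' chevG2 hG2, xGL_zero' chevG2 hG2, one_mul, one_mul, one_mul]
    exact e4
  obtain ⟨-, -, c8, c9, c10, c11⟩ := nfGL_injective _ _ _ _ _ _ _ _ _ _ _ _ e5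
  have c8' : χ 8 = 1 := by rw [mul_one] at c8; exact c8.symm
  have c9' : χ 9 = 1 := by rw [mul_one] at c9; exact c9.symm
  have c10' : χ 10 = 1 := by
    have h2 : χ 10 * -1 = -χ 10 := by ring
    rw [h2] at c10
    exact (neg_injective c10).symm
  have c11' : χ 11 = 1 := by
    have h2 : χ 11 * -1 = -χ 11 := by ring
    rw [h2] at c11
    exact (neg_injective c11).symm
  apply diag_eq_one_of_commute k hk
  · rw [nfGL_conj k χ hc, c6, c7, c8', c9', c10', c11']
    simp
  · rw [nfGL_conj k χ hc, c6, c7, c8', c9', c10', c11']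
    simp
  · rw [nfGL_conj k χ hc, c6, c7, c8', c9', c10', c11']
    simp

end Cfsg.Agent.Helper18.Ree

namespace Cfsg.Agent.Helper18.Ree

open Cfsg Cfsg.Lie Cfsg.Agent.Helper18

variable {K : Type*} [Field K]

/-- the character `χ_b` on `H¹` -/
noncomputable def chiHom (K : Type*) [Field K] (θ : ℕ) : ↥(chevG2.diagonalSubgroup K ⊓ twistedG2 K θ) →* K where
  toFun := fun k => chiB (k : GL chevG2.Idx K)
  map_one' := chiB_one
  map_mul' := fun a b => chiB_mul _ _ a.2.1 b.2.1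

theorem chiHom_injective [Fintype K] {m : ℕ} (hK : Fintype.card K = 3 ^ (2 * m + 1)) :
    Function.Injective (chiHom K (3 ^ m)) := by
  haveI := charP_three hK
  obtain ⟨σ, hσ'⟩ := exists_sigma hK
  have hσ : SigmaSpec m σ := hσ'
  rw [injective_iff_map_eq_one]
  intro k hk1
  have hfix := (mem_FixS_iff.mp (twistedG2_le_FixS hK hσ k.2.2)).2
  exact Subtype.ext (diag_fix_eq_one hσ (k : GL chevG2.Idx K) k.2.1 hfix hk1)

theorem torus_cyclic [Fintype K] {m : ℕ} (hK : Fintype.card K = 3 ^ (2 * m + 1)) :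
    IsCyclic ↥(chevG2.diagonalSubgroup K ⊓ twistedG2 K (3 ^ m)) := by
  classical
  haveI : Finite ↥(chevG2.diagonalSubgroup K ⊓ twistedG2 K (3 ^ m)) := inferInstance
  exact isCyclic_of_injective_ringHom (chiHom K (3 ^ m)) (chiHom_injective hK)

end Cfsg.Agent.Helper18.Ree
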