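import Cfsg.Agent.Helper18.Ree.Order
import Cfsg.Agent.Helper18.Ree.TorusRee

/-!
The action of `H¹` on `U¹` for `²G₂`, and the additive coordinate `U → K` at the root `b`.
-/

set_option autoImplicit false
set_option maxRecDepth 100000

namespace Cfsg.Agent.Helper18.Ree

open Cfsg Cfsg.Lie Cfsg.Agent.Helper18 Cfsg.Agent.Helper40.UT

variable {K : Type*} [Field K]

/-- the coordinate of the root `b` of an element of `U` -/
def coordB (g : GL chevG2.Idx K) : K :=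
  (g : Matrix chevG2.Idx chevG2.Idx K) (Sum.inl ⟨1, by decide⟩) (Sum.inr ⟨5, by decide⟩)

theorem coordB_mul (g h : GL chevG2.Idx K) (hg : g ∈ chevG2.posUnipotent K) (hh : h ∈ chevG2.posUnipotent K) :
    coordB (g * h) = coordB g + coordB h := by
  have htri := Cfsg.Agent.Helper40.ChevTri.triOK_G2
  have h1 : IsUT (Cfsg.Agent.Helper40.ChevTri.lvl chevG2) (g : Matrix chevG2.Idx chevG2.Idx K) :=
    Cfsg.Agent.Helper40.ChevTri.isUT_of_mem_posUnipotent htri hg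
  have h2 : IsUT (Cfsg.Agent.Helper40.ChevTri.lvl chevG2) (h : Matrix chevG2.Idx chevG2.Idx K) :=
    Cfsg.Agent.Helper40.ChevTri.isUT_of_mem_posUnipotent htri hh
  have h3 : RaisesBy (Cfsg.Agent.Helper40.ChevTri.lvl chevG2) (1 + 1)
      (((g : Matrix chevG2.Idx chevG2.Idx K) - 1) * ((h : Matrix chevG2.Idx chevG2.Idx K) - 1)) :=
    RaisesBy.mul h1 h2
  have h4 : (((g : Matrix chevG2.Idx chevG2.Idx K) - 1) * ((h : Matrix chevG2.Idx chevG2.Idx K) - 1))
      (Sum.inl ⟨1, by decide⟩) (Sum.inr ⟨5, by decide⟩) = 0 := by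
    by_contra hne
    have := h3 _ _ hne
    simp only [Cfsg.Agent.Helper40.ChevTri.lvl] at this
    norm_num at this
    revert this
    decide
  have h5 := congrFun (congrFun (Cfsg.Agent.Helper40.UT.mul_sub_one (g : Matrix chevG2.Idx chevG2.Idx K)
    (h : Matrix chevG2.Idx chevG2.Idx K)) (Sum.inl ⟨1, by decide⟩)) (Sum.inr ⟨5, by decide⟩)
  simp only [Matrix.add_apply, Matrix.sub_apply, h4, zero_add] at h5
  have h6 : (1 : Matrix chevG2.Idx chevG2.Idx K) (Sum.inl ⟨1, by decide⟩) (Sum.inr ⟨5, by decide⟩) = 0 :=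
    Matrix.one_apply_ne (by simp)
  rw [h6, sub_zero, sub_zero, sub_zero] at h5
  unfold coordB
  rw [Units.val_mul]
  exact h5

theorem coordB_one : coordB (1 : GL chevG2.Idx K) = 0 := by
  unfold coordB
  rw [Units.val_one]
  exact Matrix.one_apply_ne (by simp)

theorem coordB_inv (g : GL chevG2.Idx K) (hg : g ∈ chevG2.posUnipotent K) : coordB g⁻¹ = -coordB g := by
  have := coordB_mul g g⁻¹ hg (inv_mem hg)
  rw [mul_inv_cancel, coordB_one] at this
  exact (neg_eq_of_add_eq_zero_right this.symm).symm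

theorem xMat_inl_inr (D : ChevalleyDatum) (r : Fin D.nroots) (t : K) (i : Fin D.rank) (s : Fin D.nroots)
    (hs : s ≠ r) : D.xMat K r t (Sum.inl i) (Sum.inr s) =
      if s.val = D.negIdx.getD r.val 0 then (((D.coroot.getD r.val #[]).getD i.val 0 : ℤ) : K) * t else 0 := by
  unfold ChevalleyDatum.xMat
  simp only [Matrix.of_apply, if_neg hs]

theorem coordB_xGL (r : ℕ) (hr : 6 ≤ r ∧ r < 12) (t : K) :
    coordB (xGL chevG2 K r t) = if r = 6 then t else 0 := by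
  unfold coordB
  rw [xGL_val chevG2 _ (triOK_of_mem chevG2 hG2)]
  obtain ⟨h1, h2⟩ := hr
  have h3 : r < chevG2.nroots := h2
  unfold ChevalleyDatum.x
  rw [dif_pos h3, xMat_inl_inr]
  · interval_cases r
    · have e1 : chevG2.negIdx.getD 6 0 = 5 := by decide
      have e2 : (chevG2.coroot.getD 6 #[]).getD 1 0 = 1 := by decide
      simp only [e1, e2]
      simp
    · have e1 : chevG2.negIdx.getD 7 0 = 4 := by decide
      simp only [e1]
      simp
    · have e1 : chevG2.negIdx.getD 8 0 = 3 := by decide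
      simp only [e1]
      simp
    · have e1 : chevG2.negIdx.getD 9 0 = 2 := by decide
      simp only [e1]
      simp
    · have e1 : chevG2.negIdx.getD 10 0 = 1 := by decide
      simp only [e1]
      simp
    · have e1 : chevG2.negIdx.getD 11 0 = 0 := by decide
      simp only [e1]
      simp
  · intro e
    have := congrArg Fin.val e
    simp only at this
    omega

variable [CharP K 3]

/-- the Ree word in `U`, as an element of the general linear group -/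
noncomputable def wU (θ : ℕ) (t u v : K) : GL chevG2.Idx K :=
  (((posSys (K := K)).word θ t u v : ↥(chevG2.group K)) : GL chevG2.Idx K)

/-- the Ree word in `V`, as an element of the general linear group -/
noncomputable def wV (θ : ℕ) (t u v : K) : GL chevG2.Idx K :=
  (((negSys (K := K)).word θ t u v : ↥(chevG2.group K)) : GL chevG2.Idx K)

theorem wU_eq (θ : ℕ) (t u v : K) : wU θ t u v = xGL chevG2 K 7 (t ^ θ) * xGL chevG2 K 6 t *
    xGL chevG2 K 8 (t ^ (θ + 1) + u ^ θ) * xGL chevG2 K 9 (t ^ (2 * θ + 1) + v ^ θ) * xGL chevG2 K 10 u *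
    xGL chevG2 K 11 v := rfl

theorem coordB_wU (θ : ℕ) (t u v : K) : coordB (wU θ t u v) = t := by
  have h := fun k hk t => xGL_mem_posUnipotent (K := K) k hk t
  have h7 := h 7 (by omega) (t ^ θ)
  have h6 := h 6 (by omega) t
  have h8 := h 8 (by omega) (t ^ (θ + 1) + u ^ θ)
  have h9 := h 9 (by omega) (t ^ (2 * θ + 1) + v ^ θ)
  have h10 := h 10 (by omega) u
  have h11 := h 11 (by omega) v
  rw [wU_eq, coordB_mul _ _ (mul_mem (mul_mem (mul_mem (mul_mem h7 h6) h8) h9) h10) h11,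
    coordB_mul _ _ (mul_mem (mul_mem (mul_mem h7 h6) h8) h9) h10,
    coordB_mul _ _ (mul_mem (mul_mem h7 h6) h8) h9, coordB_mul _ _ (mul_mem h7 h6) h8, coordB_mul _ _ h7 h6,
    coordB_xGL 7 (by omega), coordB_xGL 6 (by omega), coordB_xGL 8 (by omega), coordB_xGL 9 (by omega),
    coordB_xGL 10 (by omega), coordB_xGL 11 (by omega)]
  simp

variable {σ : ↥(chevG2.group K) ≃* ↥(chevG2.group K)}

/-- the characters of a torus element fixed by the twist -/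
theorem fixed_diag_char {m : ℕ} (hσ : SigmaSpec m σ)
    (k : GL chevG2.Idx K) (hk : k ∈ chevG2.diagonalSubgroup K) (hfix : sv σ k = k) :
    ∃ χ : ℕ → K, (∀ r < 12, ∀ t : K, k * xGL chevG2 K r t = xGL chevG2 K r (χ r * t) * k) ∧
      χ 6 = chiB k ∧ χ 7 = chiB k ^ (3 ^ m) ∧ χ 8 = χ 7 * χ 6 ∧ χ 9 = χ 7 ^ 2 * χ 6 ∧ χ 10 = χ 7 ^ 3 * χ 6 ∧
      χ 11 = χ 7 ^ 3 * χ 6 ^ 2 := by
  obtain ⟨χ, hχ, hd, hc, hn⟩ := diag_char_neg chevG2 hG2 k hk
  have htri := triOK_of_mem chevG2 hG2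
  have c6 : χ 6 = chiB k := (chiB_of_diag k χ hd).symm
  have hkG : k ∈ chevG2.group K := (Cfsg.Agent.S1043.result (F := K) chevG2 hG2).1 (diagonal_le_borel chevG2 hG2 hk)
  have h1 := xGL_mem_group' (F := K) chevG2 hG2
  have c7 : χ 7 = χ 6 ^ (3 ^ m) := by
    have e := congrArg (sv σ) (hc 6 (by decide) 1)
    rw [sv_mul hkG (h1 _ _), sv_mul (h1 _ _) hkG, hfix, sv_xGL hσ 6 (by decide), sv_xGL hσ 6 (by decide),
      mul_one] at e
    have e2 := hc 7 (by decide) ((1 : K) ^ sexp m 6)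
    have e3 : rho 6 = 7 := by decide
    rw [e3] at e
    rw [e] at e2
    have e4 := mul_right_cancel e2
    have e5 := congrArg (fun g : GL chevG2.Idx K => (g : Matrix chevG2.Idx chevG2.Idx K)) e4
    simp only [xGL_val chevG2 _ htri] at e5
    have e6 := x_injective chevG2 hG2 7 (by decide) _ _ e5
    rw [one_pow, mul_one, sexp_long m 6 rfl] at e6
    exact e6.symm
  have hg : xGL chevG2 K 6 1 * xGL chevG2 K 7 1 = xGL chevG2 K 7 1 * xGL chevG2 K 6 1 *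
      (xGL chevG2 K 8 1 * xGL chevG2 K 9 1 * xGL chevG2 K 10 (-1) * xGL chevG2 K 11 (-1)) := by
    have := comm_ab_pos (K := K) 1 1
    simp only [one_pow, mul_one] at this
    exact this
  have hg' := comm_ab_pos (K := K) (χ 7 * 1) (χ 6 * 1)
  have e1 : k * (xGL chevG2 K 6 1 * xGL chevG2 K 7 1) =
      xGL chevG2 K 6 (χ 6 * 1) * xGL chevG2 K 7 (χ 7 * 1) * k :=
    conj_mul_aux (hc 6 (by decide) 1) (hc 7 (by decide) 1)
  have e2 : k * (xGL chevG2 K 7 1 * xGL chevG2 K 6 1 *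
      (xGL chevG2 K 8 1 * xGL chevG2 K 9 1 * xGL chevG2 K 10 (-1) * xGL chevG2 K 11 (-1))) =
      xGL chevG2 K 7 (χ 7 * 1) * xGL chevG2 K 6 (χ 6 * 1) *
      (xGL chevG2 K 8 (χ 8 * 1) * xGL chevG2 K 9 (χ 9 * 1) * xGL chevG2 K 10 (χ 10 * -1) *
        xGL chevG2 K 11 (χ 11 * -1)) * k :=
    conj_mul_aux (conj_mul_aux (hc 7 (by decide) 1) (hc 6 (by decide) 1))
      (conj_mul_aux (conj_mul_aux (conj_mul_aux (hc 8 (by decide) 1) (hc 9 (by decide) 1))
        (hc 10 (by decide) (-1))) (hc 11 (by decide) (-1)))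
  rw [← hg, e1, hg'] at e2
  have e3 := mul_right_cancel e2
  have e4 := mul_left_cancel e3
  have e5 : nfGL (0 : K) 0 ((χ 7 * 1) * (χ 6 * 1)) ((χ 7 * 1) ^ 2 * (χ 6 * 1)) (-((χ 7 * 1) ^ 3 * (χ 6 * 1)))
      (-((χ 7 * 1) ^ 3 * (χ 6 * 1) ^ 2)) =
      nfGL (0 : K) 0 (χ 8 * 1) (χ 9 * 1) (χ 10 * -1) (χ 11 * -1) := by
    unfold nfGL
    rw [xGL_zero' chevG2 hG2, xGL_zero' chevG2 hG2, one_mul, one_mul, one_mul]
    exact e4
  obtain ⟨-, -, c8, c9, c10, c11⟩ := nfGL_injective _ _ _ _ _ _ _ _ _ _ _ _ e5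
  refine ⟨χ, hc, c6, by rw [c7, c6], ?_, ?_, ?_, ?_⟩
  · rw [mul_one, mul_one, mul_one] at c8; exact c8.symm
  · rw [mul_one, mul_one, mul_one] at c9; exact c9.symm
  · have h2 : χ 10 * -1 = -χ 10 := by ring
    rw [h2, mul_one, mul_one] at c10
    exact (neg_injective c10).symm
  · have h2 : χ 11 * -1 = -χ 11 := by ring
    rw [h2, mul_one, mul_one] at c11
    exact (neg_injective c11).symm

/-- the action of `H¹` on `U¹` -/
theorem torus_act [Fintype K] {m : ℕ} (hK : Fintype.card K = 3 ^ (2 * m + 1)) (hσ : SigmaSpec m σ)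
    (k : GL chevG2.Idx K) (hk : k ∈ chevG2.diagonalSubgroup K) (hfix : sv σ k = k) (t u v : K) :
    k * wU (3 ^ m) t u v =
      wU (3 ^ m) (chiB k * t) (chiB k ^ (3 * 3 ^ m + 1) * u) (chiB k ^ (3 * 3 ^ m + 2) * v) * k := by
  obtain ⟨χ, hc, c6, c7, c8, c9, c10, c11⟩ := fixed_diag_char hσ k hk hfix
  have hF := fieldHyp hK
  obtain ⟨μ, hμ⟩ : ∃ μ, μ = chiB k := ⟨_, rfl⟩
  rw [← hμ] at c6 c7 ⊢
  have hμq : μ ^ (3 ^ m * (3 * 3 ^ m)) = μ := by rw [pow_mul]; exact hF.hq μ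
  rw [wU_eq, wU_eq]
  have key := conj_mul_aux (conj_mul_aux (conj_mul_aux (conj_mul_aux (conj_mul_aux
    (hc 7 (by decide) (t ^ 3 ^ m)) (hc 6 (by decide) t))
    (hc 8 (by decide) (t ^ (3 ^ m + 1) + u ^ 3 ^ m))) (hc 9 (by decide) (t ^ (2 * 3 ^ m + 1) + v ^ 3 ^ m)))
    (hc 10 (by decide) u)) (hc 11 (by decide) v)
  rw [key]
  have a7 : χ 7 * t ^ 3 ^ m = (μ * t) ^ 3 ^ m := by rw [c7, mul_pow]
  have a6 : χ 6 * t = μ * t := by rw [c6]
  have a10 : χ 10 * u = μ ^ (3 * 3 ^ m + 1) * u := by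
    rw [c10, c7, c6]; congr 1; rw [← pow_mul, pow_succ, mul_comm (3 ^ m) 3]
  have a11 : χ 11 * v = μ ^ (3 * 3 ^ m + 2) * v := by
    rw [c11, c7, c6]; congr 1; rw [← pow_mul, pow_add, mul_comm (3 ^ m) 3]
  have p1 : (μ ^ (3 * 3 ^ m + 1)) ^ 3 ^ m = μ * μ ^ 3 ^ m := by
    rw [← pow_mul, add_mul, one_mul, pow_add, mul_comm (3 * 3 ^ m) (3 ^ m), hμq]
  have p2 : (μ ^ (3 * 3 ^ m + 2)) ^ 3 ^ m = μ * (μ ^ 3 ^ m) ^ 2 := by
    rw [← pow_mul, add_mul, pow_add, mul_comm (3 * 3 ^ m) (3 ^ m), hμq, ← pow_mul, mul_comm 2 (3 ^ m)]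
  have a8 : χ 8 * (t ^ (3 ^ m + 1) + u ^ 3 ^ m) =
      (μ * t) ^ (3 ^ m + 1) + (μ ^ (3 * 3 ^ m + 1) * u) ^ 3 ^ m := by
    rw [c8, c7, c6, mul_pow, mul_pow, p1]
    ring
  have a9 : χ 9 * (t ^ (2 * 3 ^ m + 1) + v ^ 3 ^ m) =
      (μ * t) ^ (2 * 3 ^ m + 1) + (μ ^ (3 * 3 ^ m + 2) * v) ^ 3 ^ m := by
    rw [c9, c7, c6, mul_pow, mul_pow, p2]
    ring
  rw [a7, a6, a8, a9, a10, a11]

end Cfsg.Agent.Helper18.Ree
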