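import Cfsg.Agent.Helper18.Ree.Involution

/-!
`|H ∩ ²G₂(q)| = q - 1`.
-/

set_option autoImplicit false
set_option maxRecDepth 100000

namespace Cfsg.Agent.Helper18.Ree

open Cfsg Cfsg.Lie Cfsg.Agent.Helper18 Cfsg.Agent.Helper40.SL2Hom

variable {K : Type*} [Field K]

/-- the value of `h_r(c)` built from the root elements -/
theorem hpair_val (r : ℕ) (hr : r < 12) (c : K) :
    ((h (xGL chevG2 K r) (xGL chevG2 K (11 - r)) c : GL chevG2.Idx K) : Matrix chevG2.Idx chevG2.Idx K) =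
      chevG2.hMat K r c := by
  have := Cfsg.Agent.Helper40.SL2Chev.coe_hG (F := K) chevG2 addOK_G2 r c
  unfold Cfsg.Agent.Helper40.SL2Chev.hG at this
  have e1 : Cfsg.Agent.Helper40.ChevAdd.xGL chevG2 addOK_G2 K r = xGL chevG2 K r := funext (xGL40_eq r)
  have e2 : Cfsg.Agent.Helper40.ChevAdd.xGL chevG2 addOK_G2 K (chevG2.neg r) = xGL chevG2 K (11 - r) := by
    rw [neg_G2 r hr]
    exact funext (xGL40_eq (11 - r))
  rw [e1, e2] at this
  exact this

theorem hpair_mem (r : ℕ) (hr : r < 12) (c : K) (hc : c ≠ 0) :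
    h (xGL chevG2 K r) (xGL chevG2 K (11 - r)) c ∈ chevG2.diagonalSubgroup K :=
  Subgroup.subset_closure ⟨r, c, hr, hc, hpair_val r hr c⟩

/-- the character `χ_b` of an element with the matrix of `h_r(c)` -/
theorem chiB_of_hMat (g : GL chevG2.Idx K) (r : ℕ) (hr : r < 12) (c : K) (hc : c ≠ 0)
    (hg : (g : Matrix chevG2.Idx chevG2.Idx K) = chevG2.hMat K r c) : chiB g = c ^ pairing' chevG2 r 6 := by
  apply chiB_of_diag g (fun u => c ^ pairing' chevG2 r u)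
  rw [hg, hMat_eq_wDiag chevG2 hG2 r hr c hc]
  rfl

theorem chiB_jGL : chiB (jGL K) = -1 := by
  rw [chiB_of_hMat (jGL K) 8 (by decide) (-1) (neg_ne_zero.mpr one_ne_zero) (hWordGL_val chevG2 hG2 8 _)]
  have : pairing' chevG2 8 6 = 3 := by decide
  rw [this]
  norm_num

variable [CharP K 3]

theorem hL_mem_diag (m : ℕ) (t : K) (ht : t ≠ 0) : hL m t ∈ chevG2.diagonalSubgroup K := by
  rw [hL_eq]
  exact mul_mem (hpair_mem 8 (by decide) _ (pow_ne_zero _ ht)) (hpair_mem 10 (by decide) _ ht)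

theorem chiB_hL (m : ℕ) (t : K) (ht : t ≠ 0) : chiB (hL m t) = (t ^ 3 ^ m) ^ 3 * t⁻¹ := by
  rw [hL_eq, chiB_mul _ _ (hpair_mem 8 (by decide) _ (pow_ne_zero _ ht)) (hpair_mem 10 (by decide) _ ht),
    chiB_of_hMat _ 8 (by decide) _ (pow_ne_zero _ ht) (hpair_val 8 (by decide) _),
    chiB_of_hMat _ 10 (by decide) _ ht (hpair_val 10 (by decide) _)]
  have e1 : pairing' chevG2 8 6 = 3 := by decide
  have e2 : pairing' chevG2 10 6 = -1 := by decide
  rw [e1, e2]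
  norm_num

theorem card_mod_four (m : ℕ) : 3 ^ (2 * m + 1) % 4 = 3 := by
  induction m with
  | zero => rfl
  | succ k ih =>
    have : 3 ^ (2 * (k + 1) + 1) = 9 * 3 ^ (2 * k + 1) := by ring
    omega

/-- every non-zero element of `K` is `χ_b` of an element of `H¹` -/
theorem chiB_surj [Fintype K] {m : ℕ} (hK : Fintype.card K = 3 ^ (2 * m + 1)) (μ : K) (hμ : μ ≠ 0) :
    ∃ k ∈ chevG2.diagonalSubgroup K ⊓ twistedG2 K (3 ^ m), chiB k = μ := by
  have hF := fieldHyp hK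
  have hchar : ringChar K ≠ 2 := by
    rw [ringChar.eq K 3]
    norm_num
  have hodd : Odd (Fintype.card K / 2) := by
    rw [hK]
    have := card_mod_four m
    rw [Nat.odd_iff]
    omega
  -- the element attached to a square root
  have key : ∀ ν : K, ν ≠ 0 → chiB (hL m (ν ^ (3 * 3 ^ m + 1))) = ν ^ 2 := by
    intro ν hν
    rw [chiB_hL m _ (pow_ne_zero _ hν)]
    have h1 : ((ν ^ (3 * 3 ^ m + 1)) ^ 3 ^ m) ^ 3 = ν ^ 3 * ν ^ (3 * 3 ^ m) := by
      have : ((ν ^ (3 * 3 ^ m + 1)) ^ 3 ^ m) ^ 3 = ((ν ^ 3 ^ m) ^ (3 * 3 ^ m)) ^ 3 * ν ^ (3 * 3 ^ m) := by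
        rw [← pow_mul, ← pow_mul, ← pow_mul, ← pow_mul, ← pow_add]
        congr 1
        ring
      rw [this, hF.hq]
    rw [h1, pow_succ (ν) (3 * 3 ^ m)]
    field_simp
  rcases FiniteField.pow_dichotomy hchar hμ with h1 | h1
  · obtain ⟨ν, hν⟩ := (FiniteField.isSquare_iff hchar hμ).mpr h1
    have hν0 : ν ≠ 0 := by
      rintro rfl
      rw [mul_zero] at hν
      exact hμ hν
    refine ⟨hL m (ν ^ (3 * 3 ^ m + 1)), Subgroup.mem_inf.mpr ⟨hL_mem_diag m _ (pow_ne_zero _ hν0), hL_mem m _⟩, ?_⟩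
    rw [key ν hν0, hν, sq]
  · have h2 : (-μ) ^ (Fintype.card K / 2) = 1 := by
      rw [neg_pow, hodd.neg_one_pow, h1]
      ring
    obtain ⟨ν, hν⟩ := (FiniteField.isSquare_iff hchar (neg_ne_zero.mpr hμ)).mpr h2
    have hν0 : ν ≠ 0 := by
      rintro rfl
      rw [mul_zero] at hν
      exact (neg_ne_zero.mpr hμ) hν
    refine ⟨jGL K * hL m (ν ^ (3 * 3 ^ m + 1)), Subgroup.mem_inf.mpr
      ⟨mul_mem jGL_mem_diag (hL_mem_diag m _ (pow_ne_zero _ hν0)), mul_mem (jGL_mem_twisted m) (hL_mem m _)⟩, ?_⟩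
    rw [chiB_mul _ _ jGL_mem_diag (hL_mem_diag m _ (pow_ne_zero _ hν0)), chiB_jGL, key ν hν0, sq, ← hν]
    ring

/-- `|H¹| = q - 1` -/
theorem card_torus_ree [Fintype K] {m : ℕ} (hK : Fintype.card K = 3 ^ (2 * m + 1)) :
    Nat.card ↥(chevG2.diagonalSubgroup K ⊓ twistedG2 K (3 ^ m)) = 3 ^ (2 * m + 1) - 1 := by
  classical
  let φ : ↥(chevG2.diagonalSubgroup K ⊓ twistedG2 K (3 ^ m)) →* Kˣ := (chiHom K (3 ^ m)).toHomUnits
  have hφinj : Function.Injective φ := by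
    intro a b hab
    apply chiHom_injective hK
    have := congrArg (fun x : Kˣ => (x : K)) hab
    simpa [φ, MonoidHom.coe_toHomUnits] using this
  have hφsurj : Function.Surjective φ := by
    intro ζ
    obtain ⟨k, hk, hkζ⟩ := chiB_surj hK (ζ : K) ζ.ne_zero
    refine ⟨⟨k, hk⟩, Units.ext ?_⟩
    rw [MonoidHom.coe_toHomUnits]
    exact hkζ
  rw [Nat.card_congr (Equiv.ofBijective φ ⟨hφinj, hφsurj⟩), Nat.card_eq_fintype_card, Fintype.card_units, hK]

end Cfsg.Agent.Helper18.Ree
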