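import Cfsg.Agent.Helper18.Ree.Inst2

/-!
`U ∩ ²G₂`: uniqueness of the normal form in `U`, the generating words as elements of the two systems, and the fixed
points of the twist in `U`.
-/

set_option autoImplicit false
set_option maxRecDepth 100000

namespace Cfsg.Agent.Helper18.Ree

open Cfsg Cfsg.Lie Cfsg.Agent.Helper18

variable {K : Type*} [Field K]

theorem posRoots_G2 : chevG2.posRoots = [6, 7, 8, 9, 10, 11] := by decide +kernel

theorem isPosRoot_G2 (r : ℕ) : chevG2.IsPosRoot r ↔ 6 ≤ r ∧ r < 12 :=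
  isPosRoot_iff chevG2 _ (posOK_of_mem chevG2 hG2) r

/-- the coefficient function of a normal form -/
def coef (s r c d e f : K) : ℕ → K := fun k =>
  if k = 6 then s else if k = 7 then r else if k = 8 then c else if k = 9 then d else if k = 10 then e
  else if k = 11 then f else 0

theorem coef_supp (s r c d e f : K) (k : ℕ) (hk : ¬ chevG2.IsPosRoot k) : coef s r c d e f k = 0 := by
  rw [isPosRoot_G2] at hk
  unfold coef
  have h6 : k ≠ 6 := by omega
  have h7 : k ≠ 7 := by omega
  have h8 : k ≠ 8 := by omega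
  have h9 : k ≠ 9 := by omega
  have h10 : k ≠ 10 := by omega
  have h11 : k ≠ 11 := by omega
  simp [h6, h7, h8, h9, h10, h11]

/-- the normal form at the level of the general linear group -/
noncomputable def nfGL (s r c d e f : K) : GL chevG2.Idx K :=
  xGL chevG2 K 6 s * xGL chevG2 K 7 r *
    (xGL chevG2 K 8 c * xGL chevG2 K 9 d * xGL chevG2 K 10 e * xGL chevG2 K 11 f)

theorem nfGL_val (s r c d e f : K) :
    ((nfGL s r c d e f : GL chevG2.Idx K) : Matrix chevG2.Idx chevG2.Idx K) =
      chevG2.wordMat K (chevG2.posRoots.map fun k => (k, coef s r c d e f k)) := by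
  rw [posRoots_G2, ← wordGL_val chevG2 _ (triOK_of_mem chevG2 hG2)]
  congr 1
  simp only [nfGL, wordGL, List.map_cons, List.map_nil, List.prod_cons, List.prod_nil, mul_one, coef]
  simp only [mul_assoc]
  norm_num

theorem xGL_mem_posUnipotent (k : ℕ) (hk : 6 ≤ k ∧ k < 12) (t : K) : xGL chevG2 K k t ∈ chevG2.posUnipotent K := by
  apply Subgroup.subset_closure
  exact ⟨k, t, (isPosRoot_G2 k).mpr hk, xGL_val chevG2 _ (triOK_of_mem chevG2 hG2) k t⟩

theorem nfGL_mem (s r c d e f : K) : nfGL s r c d e f ∈ chevG2.posUnipotent K := by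
  unfold nfGL
  have h := fun k hk t => xGL_mem_posUnipotent (K := K) k hk t
  exact mul_mem (mul_mem (h 6 (by omega) _) (h 7 (by omega) _))
    (mul_mem (mul_mem (mul_mem (h 8 (by omega) _) (h 9 (by omega) _)) (h 10 (by omega) _)) (h 11 (by omega) _))

theorem nfGL_injective (s r c d e f s' r' c' d' e' f' : K) (h : nfGL s r c d e f = nfGL s' r' c' d' e' f') :
    s = s' ∧ r = r' ∧ c = c' ∧ d = d' ∧ e = e' ∧ f = f' := by
  obtain ⟨t, -, ht⟩ := (Cfsg.Agent.S1026.result (F := K) chevG2 hG2).1 _ (nfGL_mem s r c d e f)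
  have h1 := ht (coef s r c d e f) ⟨coef_supp s r c d e f, nfGL_val s r c d e f⟩
  have h2 := ht (coef s' r' c' d' e' f') ⟨coef_supp s' r' c' d' e' f', by rw [h]; exact nfGL_val _ _ _ _ _ _⟩
  have h3 : coef s r c d e f = coef s' r' c' d' e' f' := h1.trans h2.symm
  refine ⟨?_, ?_, ?_, ?_, ?_, ?_⟩
  · simpa [coef] using congrFun h3 6
  · simpa [coef] using congrFun h3 7
  · simpa [coef] using congrFun h3 8
  · simpa [coef] using congrFun h3 9
  · simpa [coef] using congrFun h3 10
  · simpa [coef] using congrFun h3 11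

theorem exists_nfGL (g : GL chevG2.Idx K) (hg : g ∈ chevG2.posUnipotent K) :
    ∃ s r c d e f : K, g = nfGL s r c d e f := by
  obtain ⟨t, ⟨-, ht⟩, -⟩ := (Cfsg.Agent.S1026.result (F := K) chevG2 hG2).1 g hg
  refine ⟨t 6, t 7, t 8, t 9, t 10, t 11, ?_⟩
  apply Units.ext
  rw [ht, nfGL_val]
  rw [posRoots_G2]
  simp [coef]

variable [CharP K 3]

theorem posSys_nf_val (s r c d e f : K) :
    (((posSys (K := K)).Xb s * (posSys (K := K)).Xa r * (posSys (K := K)).hh c d e f : ↥(chevG2.group K)) :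
      GL chevG2.Idx K) = nfGL s r c d e f := rfl

theorem posSys_uniq : (posSys (K := K)).Uniq := by
  intro s r c d e f s' r' c' d' e' f' h
  apply nfGL_injective
  rw [← posSys_nf_val, ← posSys_nf_val, h]

end Cfsg.Agent.Helper18.Ree
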